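import Cfsg.Agent.AutPSp.CharTwo
import Cfsg.Agent.AutPSL.FieldAut
import Cfsg.Agent.Forms.SymplecticBasis

/-!
# Similitudes: multiplier, faithfulness, Galois descent
-/

set_option autoImplicit false

namespace CfsgLib.AutPSp

open Matrix CfsgLib.Forms CfsgLib.Forms4
open CfsgLib.AutPSL (mapGL twNorm unitsNorm fixedUnits)

variable {F : Type*} [Field F] {m : ℕ}

local notation "V" => Fin m ⊕ Fin m → F
local notation "ι₂" => Fin m ⊕ Fin m
local notation "SP" => Matrix.symplecticGroup (Fin m) F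

theorem sympForm_mulVec_eq (g : Matrix ι₂ ι₂ F) (u v : V) :
    Cfsg.sympForm m F (g *ᵥ u) (g *ᵥ v) = u ⬝ᵥ ((gᵀ * Matrix.J (Fin m) F * g) *ᵥ v) := by
  rw [← Matrix.mulVec_mulVec, ← Matrix.mulVec_mulVec, Matrix.dotProduct_mulVec u gᵀ,
    Matrix.vecMul_transpose, Cfsg.sympForm]

theorem mem_GSp_iff_matrix {g : GL ι₂ F} : g ∈ Cfsg.GSp m F ↔
    ∃ c : Fˣ, g.1ᵀ * Matrix.J (Fin m) F * g.1 = (c : F) • Matrix.J (Fin m) F := by
  rw [mem_GSp_iff]
  refine exists_congr fun c => ⟨fun h => ?_, fun h u v => ?_⟩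
  · ext i j
    have h' := h (Pi.single i 1) (Pi.single j 1)
    rw [sympForm_mulVec_eq, Cfsg.sympForm] at h'
    simpa [Matrix.mulVec_single_one] using h'
  · rw [sympForm_mulVec_eq, h, Matrix.smul_mulVec, dotProduct_smul, smul_eq_mul, Cfsg.sympForm]

theorem scalar_mem_GSp (u : Fˣ) : Matrix.GeneralLinearGroup.scalar ι₂ u ∈ Cfsg.GSp m F := by
  refine mem_GSp_iff.2 ⟨u * u, fun x y => ?_⟩
  have h : ∀ z : V, (Matrix.GeneralLinearGroup.scalar ι₂ u).1 *ᵥ z = (u : F) • z := fun z => by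
    funext i; simp [Matrix.mulVec_diagonal]
  rw [h, h, sympForm_smul_left, sympForm_smul_right, Units.val_mul, mul_assoc]

theorem exists_pair_one (hm : 1 ≤ m) : ∃ a b : V, Cfsg.sympForm m F a b = 1 :=
  ⟨Pi.single (Sum.inr ⟨0, hm⟩) 1, Pi.single (Sum.inl ⟨0, hm⟩) 1, by rw [sympForm_single_inl]; simp⟩

theorem mult_unique (hm : 1 ≤ m) {g : GL ι₂ F} {c d : Fˣ}
    (hc : ∀ u v, Cfsg.sympForm m F (g.1 *ᵥ u) (g.1 *ᵥ v) = (c : F) * Cfsg.sympForm m F u v)
    (hd : ∀ u v, Cfsg.sympForm m F (g.1 *ᵥ u) (g.1 *ᵥ v) = (d : F) * Cfsg.sympForm m F u v) : c = d := by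
  obtain ⟨a, b, hab⟩ := exists_pair_one (F := F) hm
  have := (hc a b).symm.trans (hd a b)
  rw [hab, mul_one, mul_one] at this
  exact Units.ext this

/-- The multiplier of a similitude. -/
noncomputable def mult (hm : 1 ≤ m) : ↥(Cfsg.GSp m F) →* Fˣ where
  toFun g := Classical.choose (mem_GSp_iff.1 g.2)
  map_one' := mult_unique hm (Classical.choose_spec (mem_GSp_iff.1 (1 : ↥(Cfsg.GSp m F)).2))
    (fun u v => by simp)
  map_mul' g h := mult_unique hm (Classical.choose_spec (mem_GSp_iff.1 (g * h).2)) (fun u v => by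
    rw [Subgroup.coe_mul, Units.val_mul, ← Matrix.mulVec_mulVec, ← Matrix.mulVec_mulVec,
      Classical.choose_spec (mem_GSp_iff.1 g.2), Classical.choose_spec (mem_GSp_iff.1 h.2),
      Units.val_mul, mul_assoc])

theorem mult_spec (hm : 1 ≤ m) (g : ↥(Cfsg.GSp m F)) (u v : V) :
    Cfsg.sympForm m F (g.1.1 *ᵥ u) (g.1.1 *ᵥ v) = (mult hm g : F) * Cfsg.sympForm m F u v :=
  Classical.choose_spec (mem_GSp_iff.1 g.2) u v

theorem mult_eq (hm : 1 ≤ m) {g : ↥(Cfsg.GSp m F)} {c : Fˣ}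
    (h : ∀ u v, Cfsg.sympForm m F (g.1.1 *ᵥ u) (g.1.1 *ᵥ v) = (c : F) * Cfsg.sympForm m F u v) :
    mult hm g = c := mult_unique hm (mult_spec hm g) h

theorem mult_scalar (hm : 1 ≤ m) (u : Fˣ) :
    mult hm (⟨Matrix.GeneralLinearGroup.scalar ι₂ u, scalar_mem_GSp u⟩ : ↥(Cfsg.GSp m F)) = u * u :=
  mult_eq hm fun x y => by
    have h : ∀ z : V, (Matrix.GeneralLinearGroup.scalar ι₂ u).1 *ᵥ z = (u : F) • z := fun z => by
      funext i; simp [Matrix.mulVec_diagonal]
    rw [h, h, sympForm_smul_left, sympForm_smul_right, Units.val_mul, mul_assoc]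

theorem mult_surjective (hm : 1 ≤ m) : Function.Surjective (mult (F := F) hm) := by
  intro c
  let d : ι₂ → Fˣ := Sum.elim (fun _ => c) (fun _ => 1)
  let D : GL ι₂ F := Units.map (Matrix.diagonalRingHom ι₂ F).toMonoidHom (MulEquiv.piUnits.symm d)
  have hD : ∀ u v, Cfsg.sympForm m F (D.1 *ᵥ u) (D.1 *ᵥ v) = (c : F) * Cfsg.sympForm m F u v := by
    intro u v
    have hval : D.1 = Matrix.diagonal fun i => (d i : F) := rfl
    simp only [sympForm_eq_sum, hval, Matrix.mulVec_diagonal, d, Sum.elim_inl, Sum.elim_inr,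
      Units.val_one, one_mul, Finset.mul_sum]
    exact Finset.sum_congr rfl fun i _ => by ring
  exact ⟨⟨D, mem_GSp_iff.2 ⟨c, hD⟩⟩, mult_eq hm hD⟩

theorem mult_spToGSp (hm : 1 ≤ m) (s : SP) : mult hm (spToGSp s) = 1 :=
  mult_eq hm fun u v => by rw [Units.val_one, one_mul]; exact sympForm_map s u v

theorem mult_ker (hm : 1 ≤ m) : (mult (F := F) hm).ker = (spToGSp (F := F) (m := m)).range := by
  ext g
  constructor
  · intro hg
    rw [MonoidHom.mem_ker] at hg
    refine ⟨⟨g.1.1, mem_symplecticGroup_iff_form.2 fun u v => ?_⟩, Subtype.ext (Units.ext rfl)⟩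
    rw [mult_spec hm g, hg, Units.val_one, one_mul]
  · rintro ⟨s, rfl⟩
    exact mult_spToGSp hm s

/-- A semilinear similitude acting trivially is scalar and linear. -/
theorem semilinear_faithful (hm : 2 ≤ m) {g : ↥(Cfsg.GSp m F)} {σ : F ≃+* F}
    (h : conjSp g * fieldSp σ = 1) :
    σ = 1 ∧ ∃ u : Fˣ, g.1 = Matrix.GeneralLinearGroup.scalar ι₂ u := by
  classical
  obtain ⟨μ, hμ, hμe⟩ := conjSp_spTransv g
  have key : ∀ w : V, ∃ t : F, g.1.1 *ᵥ (σ ∘ w) = t • w := by
    intro w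
    by_cases hw : w = 0
    · exact ⟨0, by subst hw; simp [show (σ ∘ (0 : V)) = 0 from funext fun i => by simp]⟩
    have e := congrArg (fun φ : MulAut SP => φ (spTransv w 1)) h
    simp only [MulAut.mul_apply, fieldSp_spTransv, hμe, MulAut.one_apply, map_one, one_mul] at e
    exact line_of_spTransv_eq hw one_ne_zero e.symm
  have hsingle : ∀ i, (σ ∘ (Pi.single i (1 : F) : V)) = Pi.single i 1 := fun i => by
    funext k; by_cases hk : k = i <;> simp [hk]
  choose t ht using fun i => key (Pi.single i 1)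
  have hG : ∀ r i, g.1.1 r i = if r = i then t i else 0 := by
    intro r i
    have h1 := congrFun (ht i) r
    rw [hsingle, Matrix.mulVec_single_one] at h1
    simpa [Pi.single_apply] using h1
  have hmul : ∀ (x : V) r, (g.1.1 *ᵥ x) r = t r * x r := by
    intro x r
    simp [Matrix.mulVec, dotProduct, hG, ite_mul]
  have ht0 : ∀ r, t r ≠ 0 := by
    intro r h0
    refine g.1.det.ne_zero ?_
    rw [Matrix.GeneralLinearGroup.val_det_apply]
    exact Matrix.det_eq_zero_of_row_eq_zero r fun i => by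
      rw [hG]; split_ifs with hh
      · subst hh; exact h0
      · rfl
  have hpair : ∀ i j, i ≠ j → ∀ c : F, c * t i = t j * σ c := by
    intro i j hij c
    obtain ⟨s, hs⟩ := key (Pi.single i 1 + c • Pi.single j 1)
    have ei := congrFun hs i
    have ej := congrFun hs j
    rw [hmul] at ei ej
    simp [hij, hij.symm] at ei ej
    rw [← ei] at ej
    linear_combination -ej
  obtain ⟨o⟩ : Nonempty (Fin m) := ⟨⟨0, by omega⟩⟩
  have hconst : ∀ i, t i = t (Sum.inl o) := by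
    intro i
    by_cases hi : i = Sum.inl o
    · rw [hi]
    have := hpair i (Sum.inl o) hi 1
    simpa using this
  refine ⟨RingEquiv.ext fun c => ?_, Units.mk0 _ (ht0 (Sum.inl o)), Units.ext ?_⟩
  · have := hpair (Sum.inl o) (Sum.inr o) Sum.inl_ne_inr c
    rw [hconst (Sum.inr o), mul_comm] at this
    exact (mul_left_cancel₀ (ht0 _) this).symm
  · ext r i
    rw [hG]
    by_cases hri : r = i
    · subst hri; simp [hconst r]
    · simp [hri]

theorem conjSp_eq_one_iff (hm : 2 ≤ m) {g : ↥(Cfsg.GSp m F)} :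
    conjSp g = 1 ↔ ∃ u : Fˣ, g.1 = Matrix.GeneralLinearGroup.scalar ι₂ u := by
  refine ⟨fun h => (semilinear_faithful hm (σ := 1) (by rw [map_one, mul_one, h])).2, ?_⟩
  rintro ⟨u, hu⟩
  ext1 s
  apply Subtype.ext
  have hc : Matrix.GeneralLinearGroup.scalar ι₂ u ∈ Subgroup.center (GL ι₂ F) := by
    rw [Matrix.GeneralLinearGroup.center_eq_range_scalar]; exact ⟨u, rfl⟩
  let s' : GL ι₂ F := (spToGSp s).1
  change ((g.1 * s' * g.1⁻¹ : GL ι₂ F) : Matrix ι₂ ι₂ F) = (s' : Matrix ι₂ ι₂ F)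
  rw [hu, ← Subgroup.mem_center_iff.1 hc s', mul_inv_cancel_right]

theorem fieldSp_injective (hm : 2 ≤ m) : Function.Injective (fieldSp (F := F) (m := m)) := by
  refine (injective_iff_map_eq_one _).2 fun σ h => ?_
  exact (semilinear_faithful hm (g := 1) (by rw [map_one, one_mul, h])).1

/-- Fixed by `σ` up to a scalar implies scalar times fixed. -/
theorem exists_fixed_of_map_eq {ι : Type*} [Fintype ι] [DecidableEq ι] [Nonempty ι] [Finite F]
    {σ : F ≃+* F} {r : ℕ} (hr : orderOf σ = r) (hr0 : 0 < r) {g : GL ι F} {a : Fˣ}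
    (ha : mapGL σ g = Matrix.GeneralLinearGroup.scalar ι a * g) :
    ∃ (u : Fˣ) (g₀ : GL ι F), mapGL σ g₀ = g₀ ∧ g = Matrix.GeneralLinearGroup.scalar ι u * g₀ := by
  have hmap : ∀ (τ : F ≃+* F) (u : Fˣ), mapGL τ (Matrix.GeneralLinearGroup.scalar ι u) =
      Matrix.GeneralLinearGroup.scalar ι (Units.map (τ : F →* F) u) := by
    intro τ u
    apply Units.ext
    ext i j
    by_cases hij : i = j <;> simp [hij]
  have hiter : ∀ k : ℕ, mapGL (σ ^ k) g = Matrix.GeneralLinearGroup.scalar ι (unitsNorm σ k a) * g := by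
    intro k
    induction k with
    | zero => simp [unitsNorm, CfsgLib.AutPSL.mapGL_one_apply]
    | succ k ih =>
      rw [pow_succ, CfsgLib.AutPSL.mapGL_mul_apply, ha, map_mul, ih, ← mul_assoc, hmap, ← map_mul]
      congr 2
      simp [unitsNorm, Finset.prod_range_succ, mul_comm]
  have hN : unitsNorm σ r a = 1 := by
    have h1 := hiter r
    rw [← hr, pow_orderOf_eq_one, CfsgLib.AutPSL.mapGL_one_apply, hr, right_eq_mul] at h1
    obtain ⟨i⟩ := ‹Nonempty ι›
    have := congrArg (fun M : GL ι F => (M : Matrix ι ι F) i i) h1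
    exact Units.ext (by simpa using this)
  obtain ⟨b, hb⟩ := CfsgLib.AutPSL.exists_div_of_unitsNorm_eq_one hr hr0 hN
  refine ⟨b⁻¹, Matrix.GeneralLinearGroup.scalar ι b * g, ?_,
    by rw [← mul_assoc, ← map_mul, inv_mul_cancel, map_one, one_mul]⟩
  rw [map_mul, hmap, ha, ← mul_assoc, ← map_mul]
  congr 2
  apply Units.ext
  simp [hb]
  field_simp

theorem J_map (σ : F ≃+* F) : (Matrix.J (Fin m) F).map σ = Matrix.J (Fin m) F := by
  ext i j
  rcases i with i | i <;> rcases j with j | j <;>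
    by_cases h : i = j <;> simp [Matrix.J, Matrix.one_apply, h]

/-- An alternating invertible matrix with fixed entries is congruent to `J` over the fixed field. -/
theorem exists_fixed_congr [Finite F] {σ : F ≃+* F} {M : Matrix ι₂ ι₂ F}
    (hfix : ∀ i j, σ (M i j) = M i j) (halt : ∀ x : V, x ⬝ᵥ (M *ᵥ x) = 0) (hdet : M.det ≠ 0) :
    ∃ w : GL ι₂ F, mapGL σ w = w ∧ w.1ᵀ * M * w.1 = Matrix.J (Fin m) F := by
  classical
  let K := CfsgLib.FixedField.fixedSub σ
  let M₀ : Matrix ι₂ ι₂ K := Matrix.of fun i j => ⟨M i j, hfix i j⟩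
  have hM₀ : M₀.map K.subtype = M := by ext i j; rfl
  let B : LinearMap.BilinForm K (ι₂ → K) := Matrix.toBilin' M₀
  have hBalt : B.IsAlt := by
    intro x
    apply K.subtype.injective
    rw [map_zero, Matrix.toBilin'_apply', RingHom.map_dotProduct]
    rw [show K.subtype ∘ (M₀ *ᵥ x) = M *ᵥ (K.subtype ∘ x) from
      funext fun i => by rw [Function.comp_apply, RingHom.map_mulVec, hM₀]]
    exact halt _
  have hdet₀ : M₀.det ≠ 0 := by
    intro h0
    apply hdet
    rw [← hM₀]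
    have := K.subtype.map_det M₀
    rw [h0, map_zero] at this
    exact this.symm
  have hBnd : B.Nondegenerate := Matrix.Nondegenerate.toBilin' (Matrix.nondegenerate_of_det_ne_zero hdet₀)
  obtain ⟨j, b, h1, h2, h3⟩ := exists_symplectic_basis_nondeg B hBalt hBnd
  obtain rfl : m = j := by
    have := Module.finrank_eq_card_basis b
    simp at this
    omega
  let W₀ : Matrix ι₂ ι₂ K := Matrix.of fun i k => b (Sum.swap k) i
  have hW₀ : W₀ᵀ * M₀ * W₀ = Matrix.J (Fin m) K := by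
    ext k l
    have e : (W₀ᵀ * M₀ * W₀) k l = B (b (Sum.swap k)) (b (Sum.swap l)) := by
      rw [Matrix.toBilin'_apply', Matrix.mul_assoc]
      simp [W₀, Matrix.mul_apply, Matrix.mulVec, dotProduct]
    rw [e]
    rcases k with k | k <;> rcases l with l | l
    · simp [Sum.swap, h3, Matrix.J]
    · rw [Sum.swap_inl, Sum.swap_inr, ← LinearMap.IsAlt.neg hBalt (b (Sum.inl l)) (b (Sum.inr k)), h1]
      by_cases hkl : k = l
      · subst hkl; simp [Matrix.J]
      · simp [Matrix.J, Matrix.one_apply, hkl, Ne.symm hkl]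
    · rw [Sum.swap_inr, Sum.swap_inl, h1]
      simp [Matrix.J, Matrix.one_apply]
    · simp [Sum.swap, h2, Matrix.J]
  let W : Matrix ι₂ ι₂ F := W₀.map K.subtype
  have hW : Wᵀ * M * W = Matrix.J (Fin m) F := by
    have := congrArg (fun A : Matrix ι₂ ι₂ K => A.map K.subtype) hW₀
    simp only [Matrix.map_mul, Matrix.transpose_map] at this
    rw [hM₀] at this
    rw [this]
    ext i k
    rcases i with i | i <;> rcases k with k | k <;>
      by_cases h : i = k <;> simp [Matrix.J, Matrix.one_apply, h]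
  have hWd : W.det ≠ 0 := by
    intro h0
    have := congrArg Matrix.det hW
    rw [Matrix.det_mul, h0, mul_zero] at this
    exact (Matrix.isUnit_det_J (Fin m) F).ne_zero this.symm
  refine ⟨Matrix.GeneralLinearGroup.mkOfDetNeZero W hWd, Units.ext (Matrix.ext fun i k => ?_), hW⟩
  exact (W₀ i k).2

/-- Galois descent for similitudes. -/
theorem exists_gsp_descent [Finite F] (hm : 1 ≤ m) {σ : F ≃+* F} {r : ℕ} (hr : orderOf σ = r) (hr0 : 0 < r)
    {a : ↥(Cfsg.GSp m F)} {c : Fˣ} (hc : twNorm σ a.1 r = Matrix.GeneralLinearGroup.scalar ι₂ c) :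
    ∃ (u : Fˣ) (h : GL ι₂ F), h ∈ Cfsg.GSp m F ∧
      a.1 = Matrix.GeneralLinearGroup.scalar ι₂ u * (h * (mapGL σ h)⁻¹) := by
  classical
  haveI : Nonempty ι₂ := ⟨Sum.inl ⟨0, hm⟩⟩
  obtain ⟨u, h, ha⟩ := CfsgLib.AutPSL.exists_eq_scalar_mul_map_inv hr hr0 hc
  have ha' : h * (mapGL σ h)⁻¹ ∈ Cfsg.GSp m F := by
    have : h * (mapGL σ h)⁻¹ = (Matrix.GeneralLinearGroup.scalar ι₂ u)⁻¹ * a.1 := by
      rw [ha, inv_mul_cancel_left]
    rw [this]
    exact mul_mem (inv_mem (scalar_mem_GSp u)) a.2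
  obtain ⟨k, hk⟩ := mem_GSp_iff_matrix.1 ha'
  set A : Matrix ι₂ ι₂ F := h.1ᵀ * Matrix.J (Fin m) F * h.1 with hA
  have hAσ : A = (k : F) • A.map σ := by
    have e : h.1 = (h * (mapGL σ h)⁻¹).1 * h.1.map σ := by
      change h.1 = (h * (mapGL σ h)⁻¹).1 * (mapGL σ h).1
      rw [← Units.val_mul, inv_mul_cancel_right]
    conv_lhs => rw [hA, e]
    rw [Matrix.transpose_mul, hA, Matrix.map_mul, Matrix.map_mul, ← Matrix.transpose_map, J_map]
    calc (h.1.map σ)ᵀ * (h * (mapGL σ h)⁻¹).1ᵀ * Matrix.J (Fin m) F * ((h * (mapGL σ h)⁻¹).1 * h.1.map σ)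
        = (h.1.map σ)ᵀ * ((h * (mapGL σ h)⁻¹).1ᵀ * Matrix.J (Fin m) F * (h * (mapGL σ h)⁻¹).1) * h.1.map σ := by
          simp only [Matrix.mul_assoc]
      _ = _ := by rw [hk, Matrix.mul_smul, Matrix.smul_mul, Matrix.transpose_map]
  have hAdet : A.det ≠ 0 := by
    rw [hA, Matrix.det_mul, Matrix.det_mul, Matrix.det_transpose]
    have hh : h.1.det ≠ 0 := h.det.ne_zero
    exact mul_ne_zero (mul_ne_zero hh (Matrix.isUnit_det_J (Fin m) F).ne_zero) hh
  obtain ⟨i, j, hij⟩ : ∃ i j, A i j ≠ 0 := by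
    by_contra hne
    push Not at hne
    exact hAdet (by rw [show A = 0 from Matrix.ext hne, Matrix.det_zero])
  have hiter : ∀ n : ℕ, A i j = (unitsNorm σ n k : F) * (σ ^ n : F ≃+* F) (A i j) := by
    intro n
    induction n with
    | zero => simp [unitsNorm]
    | succ n ih =>
      have hent : A i j = (k : F) * σ (A i j) := by
        conv_lhs => rw [hAσ]
        simp
      have hN : (unitsNorm σ (n + 1) k : F) = (unitsNorm σ n k : F) * (σ ^ n : F ≃+* F) k := by
        simp [unitsNorm, Finset.prod_range_succ]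
      calc A i j = (unitsNorm σ n k : F) * (σ ^ n : F ≃+* F) (A i j) := ih
        _ = (unitsNorm σ n k : F) * (σ ^ n : F ≃+* F) ((k : F) * σ (A i j)) := by rw [← hent]
        _ = _ := by rw [hN, map_mul, pow_succ, mul_assoc]; rfl
  have hNk : unitsNorm σ r k = 1 := by
    have := hiter r
    rw [← hr, pow_orderOf_eq_one, hr] at this
    exact Units.ext (mul_right_cancel₀ hij (by rw [Units.val_one, one_mul]; exact this.symm))
  obtain ⟨b, hb⟩ := CfsgLib.AutPSL.exists_div_of_unitsNorm_eq_one hr hr0 hNk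
  obtain ⟨w, hwfix, hw⟩ := exists_fixed_congr (σ := σ) (M := (b : F)⁻¹ • A)
    (fun i j => by
      have hent : A i j = (k : F) * σ (A i j) := by
        conv_lhs => rw [hAσ]
        simp
      rw [Matrix.smul_apply, smul_eq_mul, map_mul, map_inv₀]
      conv_rhs => rw [hent, hb]
      have hσb : σ (b : F) ≠ 0 := by simp
      field_simp)
    (fun x => by
      rw [Matrix.smul_mulVec, dotProduct_smul, hA, ← sympForm_mulVec_eq, sympForm_self, smul_zero])
    (by rw [Matrix.det_smul]; exact mul_ne_zero (pow_ne_zero _ (inv_ne_zero b.ne_zero)) hAdet)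
  refine ⟨u, h * w, mem_GSp_iff_matrix.2 ⟨b, ?_⟩, ?_⟩
  · rw [Units.val_mul, Matrix.transpose_mul]
    calc w.1ᵀ * h.1ᵀ * Matrix.J (Fin m) F * (h.1 * w.1)
        = w.1ᵀ * ((b : F) • ((b : F)⁻¹ • A)) * w.1 := by
          rw [smul_smul, mul_inv_cancel₀ b.ne_zero, one_smul, hA]; simp only [Matrix.mul_assoc]
      _ = _ := by rw [Matrix.mul_smul, Matrix.smul_mul, hw]
  · rw [ha, map_mul, hwfix, _root_.mul_inv_rev, mul_assoc h, mul_inv_cancel_left]

variable [Fintype F]

/-- The inner-diagonal group is normal in the automorphism group. -/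
theorem conj_mem_inndiagPSp (p : ℕ) [Fact p.Prime] [CharP F p] (hm : 2 ≤ m)
    (α : MulAut (Cfsg.PSp m F)) {δ : MulAut (Cfsg.PSp m F)} (hδ : δ ∈ Cfsg.inndiagPSp m F) :
    α * δ * α⁻¹ ∈ Cfsg.inndiagPSp m F := by
  obtain ⟨k, rfl⟩ := mem_inndiagPSp_iff.1 hδ
  by_cases hp : p = 2
  · subst hp
    -- every similitude is a scalar times a symplectic matrix
    obtain ⟨s, hs⟩ : IsSquare ((mult (by omega : 1 ≤ m) k : Fˣ) : F) :=
      FiniteField.isSquare_of_char_two (ringChar.eq F 2) _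
    have hs0 : s ≠ 0 := fun h0 => (mult (by omega : 1 ≤ m) k).ne_zero (by rw [hs, h0, mul_zero])
    set S : ↥(Cfsg.GSp m F) := ⟨_, scalar_mem_GSp (m := m) (Units.mk0 s hs0)⟩ with hS
    obtain ⟨A, hA⟩ : S⁻¹ * k ∈ (spToGSp (F := F) (m := m)).range := by
      rw [← mult_ker (by omega : 1 ≤ m), MonoidHom.mem_ker, map_mul, map_inv, hS, mult_scalar, inv_mul_eq_one]
      exact Units.ext hs.symm
    have hk : conjSp k = MulAut.conj A := by
      rw [← conjSp_spToGSp, hA, map_mul, map_inv, (conjSp_eq_one_iff hm (g := S)).2 ⟨_, congrArg Subtype.val hS⟩, inv_one, one_mul]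
    rw [hk, toPSpAut_conj]
    have : α * MulAut.conj (QuotientGroup.mk A : Cfsg.PSp m F) * α⁻¹ =
        MulAut.conj (α (QuotientGroup.mk A)) := by
      ext1 x
      simp [MulAut.mul_apply, MulAut.inv_def]
    obtain ⟨B, hB⟩ := QuotientGroup.mk_surjective (α (QuotientGroup.mk A))
    rw [this, ← hB, ← toPSpAut_conj, ← conjSp_spToGSp]
    exact mem_inndiagPSp_iff.2 ⟨_, rfl⟩
  · obtain ⟨g, σ, rfl⟩ := exists_semiAut p hm (fun _ => hp) α
    refine mem_inndiagPSp_iff.2 ⟨g * ⟨_, map_mem_GSp σ k.2⟩ * g⁻¹, ?_⟩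
    rw [semiAut, ← map_mul, ← map_inv, ← map_mul, map_mul conjSp, map_mul conjSp, map_inv]
    congr 1
    rw [mul_assoc (conjSp g), fieldSp_mul_conjSp σ k (map_mem_GSp σ k.2)]
    group

end CfsgLib.AutPSp
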