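import Cfsg.Agent.AutPSp.SpFourExceptional

/-!
# Automorphisms of `PSp_4` in characteristic two

Every automorphism is semilinear or the exceptional one followed by a semilinear one.
-/

set_option autoImplicit false

namespace CfsgLib.AutPSp

open Matrix CfsgLib.Forms CfsgLib.Forms4

variable {F : Type*} [Field F] {m : ℕ}

local notation "V" => Fin m ⊕ Fin m → F
local notation "SP" => Matrix.symplecticGroup (Fin m) F

theorem conj_radElem' (A : SP) (e u : V) :
    A * radElem e u * A⁻¹ = radElem (A.1 *ᵥ e) (A.1 *ᵥ u) := by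
  have h : A * radElem e u * A⁻¹ = (A * spTransv (e + u) 1 * A⁻¹) * (A * spTransv u (-1) * A⁻¹) *
      (A * spTransv e (-1) * A⁻¹) := by
    unfold radElem; group
  rw [h, conj_spTransv, conj_spTransv, conj_spTransv, Matrix.mulVec_add]
  rfl

theorem radical_form {e : V} (he0 : e ≠ 0) {z : SP} (hz : z ∈ radical e) :
    ∃ (a : V) (k : F), Cfsg.sympForm m F e a = 0 ∧
      (∀ x, z.1 *ᵥ x - x = (Cfsg.sympForm m F x a - Cfsg.sympForm m F x e * k) • e +
        Cfsg.sympForm m F x e • a) ∧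
      (∀ s : F, a = s • e → ∃ c : F, z = spTransv e c) := by
  obtain ⟨y, hy⟩ := exists_sympForm_ne_zero he0
  set x0 := (Cfsg.sympForm m F y e)⁻¹ • y with hx0
  have hfx0 : Cfsg.sympForm m F x0 e = 1 := by rw [hx0, sympForm_smul_left, inv_mul_cancel₀ hy]
  set a := z.1 *ᵥ x0 - x0 with ha
  have hzx0 : z.1 *ᵥ x0 = x0 + a := by rw [ha]; abel
  have hea : Cfsg.sympForm m F e a = 0 := by
    rw [ha, ← sympBilin_apply, map_sub, sympBilin_apply, sympBilin_apply]
    have := sympForm_map z e x0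
    rw [hz.1] at this
    rw [this, sub_self]
  have hform : ∀ x, z.1 *ᵥ x - x = (Cfsg.sympForm m F x a - Cfsg.sympForm m F x e * Cfsg.sympForm m F x0 a) • e +
      Cfsg.sympForm m F x e • a := by
    intro x
    have hx' : Cfsg.sympForm m F (x + (-Cfsg.sympForm m F x e) • x0) e = 0 := by
      rw [sympForm_add_left, sympForm_smul_left, hfx0]; ring
    obtain ⟨t, ht⟩ := hz.2 _ hx'
    have h := sympForm_map z (x + (-Cfsg.sympForm m F x e) • x0) x0
    rw [ht, hzx0, sympForm_add_left, sympForm_add_right, sympForm_smul_left _ _ t, sympForm_add_right, hea,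
      sympForm_swap x0 e, hfx0] at h
    have htv : t = Cfsg.sympForm m F (x + (-Cfsg.sympForm m F x e) • x0) a := by linear_combination -h
    rw [sympForm_add_left, sympForm_smul_left] at htv
    rw [Matrix.mulVec_add, Matrix.mulVec_smul, hzx0, htv] at ht
    linear_combination (norm := module) ht
  refine ⟨a, Cfsg.sympForm m F x0 a, hea, hform, fun s hs => ⟨s, sp_ext fun x => ?_⟩⟩
  rw [spTransv_mulVec, ← sub_eq_iff_eq_add', hform, hs, sympForm_smul_right, sympForm_smul_right, hfx0]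
  module

variable [Fintype F]

theorem card_classSet_gt_two [CharP F 2] (hm : 2 ≤ m) {z : SP} {e a : V} {k : F} (hk : k ≠ 0)
    (hea : Cfsg.sympForm m F e a = 0) (hli : LinearIndependent F ![e, a])
    (hform : ∀ x, z.1 *ᵥ x - x = (Cfsg.sympForm m F x a - Cfsg.sympForm m F x e * k) • e +
      Cfsg.sympForm m F x e • a) :
    Nat.card {v : V // v ≠ 0} < Nat.card (classSet z) := by
  classical
  have : Finite SP := Subtype.finite
  let i0 : Fin m := ⟨0, by omega⟩
  let i1 : Fin m := ⟨1, by omega⟩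
  have hi : i0 ≠ i1 := by simp [i0, i1, Fin.ext_iff]
  let e0 : V := Pi.single (Sum.inl i0) 1
  let w : Bool → V := fun b => if b then Pi.single (Sum.inl i1) 1 else Pi.single (Sum.inr i1) 1
  have hw0 : ∀ b, Cfsg.sympForm m F e0 (w b) = 0 := by
    intro b; cases b <;> simp [w, e0, sympForm_single_inl, sympForm_single_inr, hi]
  have hwli : ∀ b, LinearIndependent F ![e0, w b] := by
    intro b
    rw [LinearIndependent.pair_iff' (by simp [e0] : e0 ≠ 0)]
    intro s hs
    cases b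
    · have := congrFun hs (Sum.inr i1); simp [e0, w] at this
    · have := congrFun hs (Sum.inl i1); simp [e0, w, hi] at this
  choose A hA using fun v : {v : V // v ≠ 0} => exists_mulVec_eq (v := e0) (w := v.1) (by simp [e0]) v.2
  have hB : ∀ p : {v : V // v ≠ 0} × Bool, ∃ B : SP, B.1 *ᵥ e = p.1.1 ∧ B.1 *ᵥ a = (A p.1).1 *ᵥ w p.2 := by
    rintro ⟨v, b⟩
    obtain ⟨B', hB1, hB2⟩ := exists_spGL_mulVec_pair hli (hwli b) (by rw [hea, hw0])
    obtain ⟨B, rfl⟩ := toSpGL_surjective B'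
    change B.1 *ᵥ e = e0 at hB1
    change B.1 *ᵥ a = w b at hB2
    exact ⟨A v * B, by rw [coe_mul_mulVec, hB1, hA], by rw [coe_mul_mulVec, hB2]⟩
  choose B hBe hBa using hB
  let Φ : {v : V // v ≠ 0} × Bool → classSet z := fun p => ⟨B p * z * (B p)⁻¹, isConj_iff.2 ⟨B p, rfl⟩⟩
  have hy : ∀ p x, (B p * z * (B p)⁻¹).1 *ᵥ x - x =
      (Cfsg.sympForm m F x ((A p.1).1 *ᵥ w p.2) - Cfsg.sympForm m F x p.1.1 * k) • p.1.1 +
      Cfsg.sympForm m F x p.1.1 • ((A p.1).1 *ᵥ w p.2) := by
    intro p x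
    have h := hform ((B p)⁻¹.1 *ᵥ x)
    have h' := congrArg ((B p).1 *ᵥ ·) h
    simp only [Matrix.mulVec_sub, Matrix.mulVec_add, Matrix.mulVec_smul, mulVec_inv, hBe, hBa] at h'
    rw [coe_mul_mulVec, coe_mul_mulVec, h']
    have e1 := sympForm_map (B p) ((B p)⁻¹.1 *ᵥ x) a
    have e2 := sympForm_map (B p) ((B p)⁻¹.1 *ᵥ x) e
    rw [mulVec_inv, hBa] at e1
    rw [mulVec_inv, hBe] at e2
    rw [← e1, ← e2]
  have hΦ : Function.Injective Φ := by
    rintro ⟨v, b⟩ ⟨v', b'⟩ h
    have h0 : B (v, b) * z * (B (v, b))⁻¹ = B (v', b') * z * (B (v', b'))⁻¹ := congrArg Subtype.val h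
    have hq : ∀ (p : {v : V // v ≠ 0} × Bool) (x : V),
        Cfsg.sympForm m F ((B p * z * (B p)⁻¹).1 *ᵥ x - x) x = k * Cfsg.sympForm m F x p.1.1 ^ 2 := by
      intro p x
      rw [hy, sympForm_add_left, sympForm_smul_left, sympForm_smul_left, sympForm_swap x p.1.1,
        sympForm_swap x ((A p.1).1 *ᵥ w p.2)]
      simp only [CharTwo.sub_eq_add, CharTwo.neg_eq]
      linear_combination (CharTwo.add_self_eq_zero (Cfsg.sympForm m F x ((A p.1).1 *ᵥ w p.2) * Cfsg.sympForm m F x p.1.1))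
    have hvv : v = v' := by
      refine Subtype.ext (sub_eq_zero.1 (sympForm_sep _ fun x => ?_))
      have h1 := hq (v, b) x
      rw [h0, hq (v', b') x] at h1
      have h2 := CharTwo.sq_injective (mul_left_cancel₀ hk h1).symm
      simp only at h2
      rw [sympForm_swap, neg_eq_zero, ← sympBilin_apply, map_sub, sympBilin_apply, sympBilin_apply, h2, sub_self]
    subst hvv
    by_contra hne
    have hbb : b ≠ b' := fun hb => hne (by rw [hb])
    set d := w b - w b' with hd
    have h3 : ∀ x, Cfsg.sympForm m F x ((A v).1 *ᵥ d) • v.1 + Cfsg.sympForm m F x v.1 • ((A v).1 *ᵥ d) = 0 := by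
      intro x
      have e1 := hy (v, b) x
      rw [h0, hy (v, b') x] at e1
      rw [hd, Matrix.mulVec_sub, ← sympBilin_apply x ((A v).1 *ᵥ w b - (A v).1 *ᵥ w b'), map_sub, sympBilin_apply,
        sympBilin_apply]
      linear_combination (norm := module) -e1
    have h4 := h3 ((A v).1 *ᵥ Pi.single (Sum.inr i0) 1)
    rw [← hA v, sympForm_map, sympForm_map, sympForm_single_inl] at h4
    have h5 := congrArg ((A v)⁻¹.1 *ᵥ ·) h4
    simp only [Matrix.mulVec_add, Matrix.mulVec_smul, inv_mulVec, Matrix.mulVec_zero] at h5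
    have h6 := congrFun h5 (Sum.inl i1)
    simp [e0, hi, hd, w] at h6
    cases b <;> cases b' <;> simp_all
  have hpos : 0 < Nat.card {v : V // v ≠ 0} := by
    haveI : Nonempty {v : V // v ≠ 0} := ⟨⟨e0, by simp [e0]⟩⟩
    exact Nat.card_pos
  have := Nat.card_le_card_of_injective Φ hΦ
  rw [Nat.card_prod, Nat.card_eq_fintype_card (α := Bool), Fintype.card_bool] at this
  omega

/-- The members of the two small classes. -/
theorem transv_or_radElem [CharP F 2] (hm : 2 ≤ m) (β : MulAut (Cfsg.PSp m F)) {x : Cfsg.PSp m F}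
    (hx : IsTransv x) : IsTransv (β x) ∨ ∃ e a : V, Cfsg.sympForm m F e a = 0 ∧
      LinearIndependent F ![e, a] ∧ β x = QuotientGroup.mk (radElem e a) := by
  classical
  obtain ⟨w, c, hw, hc, rfl⟩ := hx
  haveI : Finite (Cfsg.PSp m F) := Quotient.finite _
  have : Fact (Nat.Prime 2) := ⟨Nat.prime_two⟩
  have hm1 : 1 ≤ m := by omega
  obtain ⟨P, hP, hcen⟩ := exists_sylow_mkT 2 hm1 hw c
  let P' := P.mapSurjective (f := β.toMonoidHom) β.surjective
  have hmem : β (mkT w c) ∈ (P' : Subgroup (Cfsg.PSp m F)) := by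
    simp only [P', Sylow.coe_mapSurjective]
    exact Subgroup.mem_map_of_mem _ hP
  obtain ⟨S, z, hz, hzc, hzx⟩ := exists_lift_sylow_center 2 hm1 P' hmem fun y hy => by
    simp only [P', Sylow.coe_mapSurjective, Subgroup.mem_map] at hy
    obtain ⟨y0, hy0, rfl⟩ := hy
    change β y0 * β _ = β _ * β y0
    rw [← map_mul, ← map_mul, hcen y0 hy0]
  have hsmall : Nat.card (classSet z) ≤ Nat.card {v : V // v ≠ 0} := by
    rw [← card_classSet_map (mkEquiv (F := F) hm1)]
    change Nat.card (classSet (QuotientGroup.mk z : Cfsg.PSp m F)) ≤ _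
    rw [← hzx, card_classSet_map]
    exact card_classSet_mkT_le w hw c
  obtain ⟨e, he0, he⟩ := exists_fixed_vector 2 hm1 (S : Subgroup SP) S.2
  obtain ⟨a, k, hea, hform, hdep⟩ := radical_form he0 (sylow_center_form 2 S he0 he hz hzc).1
  by_cases hs : ∃ s : F, a = s • e
  · obtain ⟨s, hs⟩ := hs
    obtain ⟨d, rfl⟩ := hdep s hs
    refine Or.inl ⟨e, d, he0, ?_, hzx⟩
    rintro rfl
    have h0 : (spTransv e (0 : F)) = (1 : SP) := sp_ext fun x => by simp [spTransv_mulVec]
    rw [h0, QuotientGroup.mk_one, map_eq_one_iff _ β.injective] at hzx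
    exact spTransv_ne_one hw hc ((mkEquiv (F := F) (m := m) hm1).injective (by rw [map_one]; exact hzx))
  have hli : LinearIndependent F ![e, a] := by
    rw [LinearIndependent.pair_iff' he0]
    exact fun s h => hs ⟨s, h.symm⟩
  by_cases hk : k = 0
  · refine Or.inr ⟨e, a, hea, hli, ?_⟩
    rw [hzx]
    congr 1
    refine sp_ext fun y => ?_
    rw [radElem_mulVec (by rw [sympForm_swap, hea, neg_zero])]
    have h := hform y
    rw [hk, mul_zero, sub_zero] at h
    linear_combination (norm := module) h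
  · exact absurd hsmall (not_le.2 (card_classSet_gt_two hm hk hea hli hform))

theorem mkT_isConj [CharP F 2] {w v : V} {c d : F} (hw : w ≠ 0) (hv : v ≠ 0) (hc : c ≠ 0) (hd : d ≠ 0) :
    IsConj (mkT w c) (mkT v d) := by
  obtain ⟨a, ha⟩ := FiniteField.isSquare_of_char_two (ringChar.eq F 2) (d / c)
  have ha0 : a ≠ 0 := fun h0 => by simp [h0, hd, hc] at ha
  obtain ⟨A, hA⟩ := exists_mulVec_eq hw (smul_ne_zero ha0 hv)
  refine isConj_iff.2 ⟨QuotientGroup.mk A, ?_⟩
  rw [mkT, mkT, ← QuotientGroup.mk_inv, ← QuotientGroup.mk_mul, ← QuotientGroup.mk_mul, conj_spTransv, hA,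
    spTransv_smul, pow_two, ← ha, div_mul_cancel₀ _ hc]

theorem isTransv_conj {x y : Cfsg.PSp m F} (hx : IsTransv x) (h : IsConj x y) : IsTransv y := by
  obtain ⟨w, c, hw, hc, rfl⟩ := hx
  obtain ⟨g, hg⟩ := isConj_iff.1 h
  obtain ⟨A, rfl⟩ := QuotientGroup.mk_surjective g
  refine ⟨A.1 *ᵥ w, c, mulVec_ne_zero A hw, hc, ?_⟩
  rw [← hg, mkT, mkT, ← QuotientGroup.mk_inv, ← QuotientGroup.mk_mul, ← QuotientGroup.mk_mul, conj_spTransv]

section Four

variable [CharP F 2]

/-- The exceptional automorphism of `PSp_4`. -/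
noncomputable def extAut (hq : 3 ≤ Fintype.card F) : MulAut (Cfsg.PSp 2 F) :=
  toPSpAut (MulEquiv.ofBijective (extHom (F := F))
    ⟨extHom_injective hq, Finite.injective_iff_surjective.1 (extHom_injective hq)⟩)

theorem extAut_not_transv (hq : 3 ≤ Fintype.card F) {x : Cfsg.PSp 2 F} (hx : IsTransv x) :
    ¬ IsTransv (extAut hq x) := by
  intro h
  obtain ⟨w, c, hw, hc, rfl⟩ := hx
  have h1 : IsTransv (extAut hq (mkT (Pi.single (Sum.inl 0) (1 : F)) 1)) :=
    isTransv_conj h ((extAut hq).toMonoidHom.map_isConj (mkT_isConj hw (by simp) hc one_ne_zero))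
  obtain ⟨v, d, -, -, hvd⟩ := h1
  exact extHom_not_transv v d ((mkEquiv (F := F) (m := 2) one_le_two).injective hvd)

/-- Automorphisms of `PSp_4`, characteristic two. -/
theorem exists_semiAut_or (hq : 3 ≤ Fintype.card F) (β : MulAut (Cfsg.PSp 2 F)) :
    (∃ g σ, β = semiAut g σ) ∨ ∃ g σ, β = extAut hq * semiAut g σ := by
  classical
  set e0 : Fin 2 ⊕ Fin 2 → F := Pi.single (Sum.inl 0) 1
  have he0 : e0 ≠ 0 := by simp [e0]
  have ht0 : IsTransv (mkT e0 (1 : F)) := ⟨e0, 1, he0, one_ne_zero, rfl⟩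
  have hall : ∀ γ : MulAut (Cfsg.PSp 2 F), IsTransv (γ (mkT e0 1)) →
      ∀ x, IsTransv x → IsTransv (γ x) := by
    rintro γ h x ⟨w, c, hw, hc, rfl⟩
    exact isTransv_conj h (γ.toMonoidHom.map_isConj (mkT_isConj he0 hw one_ne_zero hc))
  rcases transv_or_radElem le_rfl β ht0 with h | ⟨e, a, hea, hli, h⟩
  · exact Or.inl (exists_semiAut_of_preserves le_rfl β (hall β h))
  · refine Or.inr ?_
    obtain ⟨e', a', hea', hli', h'⟩ :=
      (transv_or_radElem le_rfl (extAut hq) ht0).resolve_left (extAut_not_transv hq ht0)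
    obtain ⟨B', hB1, hB2⟩ := exists_spGL_mulVec_pair hli' hli (by rw [hea', hea])
    obtain ⟨B, rfl⟩ := toSpGL_surjective B'
    change B.1 *ᵥ e' = e at hB1
    change B.1 *ᵥ a' = a at hB2
    have hconj : IsConj (extAut hq (mkT e0 1)) (β (mkT e0 1)) := by
      rw [h, h', isConj_iff]
      refine ⟨QuotientGroup.mk B, ?_⟩
      rw [← QuotientGroup.mk_inv, ← QuotientGroup.mk_mul, ← QuotientGroup.mk_mul, conj_radElem', hB1, hB2]
    have h1 : IsTransv (((extAut hq)⁻¹ * β) (mkT e0 1)) := by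
      refine isTransv_conj ht0 ?_
      have := (extAut hq)⁻¹.toMonoidHom.map_isConj hconj
      simpa [MulAut.mul_apply, MulAut.inv_def] using this
    obtain ⟨g, σ, hg⟩ := exists_semiAut_of_preserves le_rfl _ (hall _ h1)
    exact ⟨g, σ, by rw [← hg, mul_inv_cancel_left]⟩

end Four

end CfsgLib.AutPSp
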