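import Cfsg.Agent.AutPSp.Field
import Cfsg.Agent.AutPSp.SpFour

/-!
# The order of the automorphism group of `PSp_2m`
-/

set_option autoImplicit false

namespace CfsgLib.AutPSp

open Matrix CfsgLib.Forms CfsgLib.Forms4

variable {F : Type*} [Field F] {m : ℕ}

local notation "SP" => Matrix.symplecticGroup (Fin m) F
local notation "ι₂" => Fin m ⊕ Fin m

theorem semiAut_eq (g : ↥(Cfsg.GSp m F)) (σ : F ≃+* F) :
    semiAut g σ = toPSpAut (conjSp g) * toPSpAut (fieldSp σ) := map_mul _ _ _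

theorem isTransv_semiAut (g : ↥(Cfsg.GSp m F)) (σ : F ≃+* F) {x : Cfsg.PSp m F} (hx : IsTransv x) :
    IsTransv (semiAut g σ x) := by
  obtain ⟨w, c, hw, hc, rfl⟩ := hx
  obtain ⟨μ, hμ, hμe⟩ := conjSp_spTransv g
  refine ⟨g.1.1 *ᵥ (σ ∘ w), σ c * μ, fun h => hw ?_, mul_ne_zero (by simpa using hc) hμ, ?_⟩
  · have h1 := congrArg ((g.1⁻¹ : GL ι₂ F).1 *ᵥ ·) h
    simp only [Matrix.mulVec_mulVec, g.1.inv_mul, Matrix.one_mulVec, Matrix.mulVec_zero] at h1
    funext i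
    exact σ.injective (by simpa using congrFun h1 i)
  · change toPSpAut _ (QuotientGroup.mk (spTransv w c)) = _
    rw [toPSpAut_mk, MulAut.mul_apply, fieldSp_spTransv, hμe]
    rfl

theorem semiAut_unique (p : ℕ) [Fact p.Prime] [CharP F p] (hm : 2 ≤ m) {g g' : ↥(Cfsg.GSp m F)}
    {σ σ' : F ≃+* F} (h : semiAut g σ = semiAut g' σ') :
    σ = σ' ∧ toPSpAut (conjSp g) = toPSpAut (conjSp g') := by
  have h' : conjSp g * fieldSp σ = conjSp g' * fieldSp σ' := toPSpAut_injective p (by omega : 1 ≤ m) h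
  have h1 : conjSp (g'⁻¹ * g) * fieldSp (σ * σ'⁻¹) = 1 := by
    rw [map_mul conjSp, map_inv conjSp, map_mul fieldSp, map_inv fieldSp,
      show (conjSp g')⁻¹ * conjSp g * (fieldSp σ * (fieldSp σ')⁻¹) =
        (conjSp g')⁻¹ * (conjSp g * fieldSp σ) * (fieldSp σ')⁻¹ by group, h']
    group
  have hσ : σ = σ' := mul_inv_eq_one.1 (semilinear_faithful hm h1).1
  subst hσ
  exact ⟨rfl, congrArg toPSpAut (mul_right_cancel h')⟩

theorem conj_injective (p : ℕ) [Fact p.Prime] [CharP F p] (hm : 1 ≤ m) :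
    Function.Injective (MulAut.conj : Cfsg.PSp m F →* MulAut (Cfsg.PSp m F)) := by
  rw [injective_iff_map_eq_one]
  intro x hx
  obtain ⟨A, rfl⟩ := QuotientGroup.mk_surjective x
  rw [← toPSpAut_conj, map_eq_one_iff _ (toPSpAut_injective p hm)] at hx
  rw [QuotientGroup.eq_one_iff, Subgroup.mem_center_iff]
  intro B
  have := DFunLike.congr_fun hx B
  rw [MulAut.conj_apply, MulAut.one_apply, mul_inv_eq_iff_eq_mul] at this
  exact this.symm

variable [Fintype F]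

theorem finite_mulAut : Finite (MulAut (Cfsg.PSp m F)) := by
  classical
  haveI : Finite (Cfsg.PSp m F) := Quotient.finite _
  exact Finite.of_injective (fun a : MulAut (Cfsg.PSp m F) => (a : Cfsg.PSp m F → Cfsg.PSp m F))
    DFunLike.coe_injective

theorem card_inndiagPSp (p : ℕ) [Fact p.Prime] [CharP F p] (hm : 2 ≤ m) :
    Nat.card ↥(Cfsg.inndiagPSp m F) =
      Nat.gcd 2 (Fintype.card F - 1) * Nat.card (Cfsg.PSp m F) := by
  classical
  have hm1 : 1 ≤ m := by omega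
  haveI := finite_mulAut (F := F) (m := m)
  set φ := innDiagHom (F := F) (m := m)
  set S := (spToGSp (F := F) (m := m)).range
  have hS : S.map φ = Cfsg.Inn (Cfsg.PSp m F) := by rw [inn_eq_range, MonoidHom.range_comp]
  have hinn : Nat.card (S.map φ) = Nat.card (Cfsg.PSp m F) := by
    rw [hS]
    exact (Nat.card_congr (MonoidHom.ofInjective (conj_injective (F := F) p hm1)).toEquiv).symm
  have hker : (φ.ker).map (mult hm1) = (powMonoidHom 2 : Fˣ →* Fˣ).range := by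
    ext c
    constructor
    · rintro ⟨g, hg, rfl⟩
      obtain ⟨u, hu⟩ := (conjSp_eq_one_iff hm).1 ((map_eq_one_iff _ (toPSpAut_injective p hm1)).1 hg)
      refine ⟨u, ?_⟩
      rw [show g = ⟨_, scalar_mem_GSp u⟩ from Subtype.ext hu, mult_scalar]
      simp [pow_two]
    · rintro ⟨u, rfl⟩
      refine ⟨⟨_, scalar_mem_GSp u⟩, ?_, by rw [mult_scalar]; simp [pow_two]⟩
      change toPSpAut (conjSp _) = 1
      rw [(conjSp_eq_one_iff hm).2 ⟨u, rfl⟩, map_one]
  have hidx : (S ⊔ φ.ker).index = Nat.gcd 2 (Fintype.card F - 1) := by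
    rw [CfsgLib.AutPSL.index_eq_map_index (mult hm1) (mult_surjective hm1) _
      (by rw [mult_ker hm1]; exact le_sup_left), Subgroup.map_sup,
      (Subgroup.map_eq_bot_iff S).2 (mult_ker hm1).ge, bot_sup_eq, hker, IsCyclic.index_powMonoidHom_range,
      Nat.card_units, Nat.card_eq_fintype_card, Nat.gcd_comm]
  have h1 := (S.map φ).card_mul_index
  rw [Subgroup.index_map, hinn, hidx] at h1
  have h2 := φ.range.card_mul_index
  rw [← h1, ← mul_assoc] at h2
  rw [inndiagPSp_eq, Nat.eq_of_mul_eq_mul_right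
    (Nat.pos_of_ne_zero φ.range.index_ne_zero_of_finite) h2, mul_comm]

theorem card_aut_psp (p : ℕ) [Fact p.Prime] [CharP F p] (hm : 2 ≤ m)
    (h22 : m = 2 → 3 ≤ Fintype.card F) :
    Nat.card (MulAut (Cfsg.PSp m F)) = (if m = 2 ∧ p = 2 then 2 else 1) *
      Nat.gcd 2 (Fintype.card F - 1) * Nat.card (F ≃+* F) * Nat.card (Cfsg.PSp m F) := by
  classical
  haveI := finite_mulAut (F := F) (m := m)
  have key : ∀ x : ↥(Cfsg.inndiagPSp m F) × (F ≃+* F), ∃ g, (x.1 : MulAut (Cfsg.PSp m F)) = toPSpAut (conjSp g) :=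
    fun x => mem_inndiagPSp_iff.1 x.1.2
  let Φ : ↥(Cfsg.inndiagPSp m F) × (F ≃+* F) → MulAut (Cfsg.PSp m F) :=
    fun x => x.1.1 * toPSpAut (fieldSp x.2)
  have hΦ : Function.Injective Φ := by
    rintro ⟨a, σ⟩ ⟨a', σ'⟩ h
    obtain ⟨g, hg⟩ := key (a, σ)
    obtain ⟨g', hg'⟩ := key (a', σ')
    simp only at hg hg'
    have h' : semiAut g σ = semiAut g' σ' := by
      rw [semiAut_eq, semiAut_eq, ← hg, ← hg']; exact h
    obtain ⟨rfl, e⟩ := semiAut_unique p hm h'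
    exact Prod.ext (Subtype.ext (by rw [hg, hg', e])) rfl
  have hmemΦ : ∀ g σ, semiAut g σ ∈ Set.range Φ := fun g σ =>
    ⟨(⟨_, mem_inndiagPSp_iff.2 ⟨g, rfl⟩⟩, σ), (semiAut_eq g σ).symm⟩
  have hΦtr : ∀ x, ∃ g σ, Φ x = semiAut g σ := fun x => by
    obtain ⟨g, hg⟩ := key x
    exact ⟨g, x.2, by rw [semiAut_eq, ← hg]⟩
  have hcardΦ : Nat.card (↥(Cfsg.inndiagPSp m F) × (F ≃+* F)) =
      Nat.gcd 2 (Fintype.card F - 1) * Nat.card (F ≃+* F) * Nat.card (Cfsg.PSp m F) := by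
    rw [Nat.card_prod, card_inndiagPSp p hm]; ring
  by_cases h : m = 2 ∧ p = 2
  · obtain ⟨rfl, rfl⟩ := h
    have hq := h22 rfl
    let Ψ : Bool × (↥(Cfsg.inndiagPSp 2 F) × (F ≃+* F)) → MulAut (Cfsg.PSp 2 F) :=
      fun x => if x.1 then extAut hq * Φ x.2 else Φ x.2
    have hne : ∀ g σ g' σ', extAut hq * semiAut g σ ≠ semiAut g' σ' := by
      intro g σ g' σ' e
      have ht0 : IsTransv (mkT (Pi.single (Sum.inl 0) 1) (1 : F) : Cfsg.PSp 2 F) :=
        ⟨_, 1, by simp, one_ne_zero, rfl⟩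
      refine extAut_not_transv hq (isTransv_semiAut g σ ht0) ?_
      rw [← MulAut.mul_apply, e]
      exact isTransv_semiAut g' σ' ht0
    have hΨ : Function.Bijective Ψ := by
      constructor
      · rintro ⟨b, x⟩ ⟨b', x'⟩ e
        obtain ⟨g, σ, hx⟩ := hΦtr x
        obtain ⟨g', σ', hx'⟩ := hΦtr x'
        cases b <;> cases b' <;> simp only [Ψ, if_true, Bool.false_eq_true, if_false] at e
        · rw [hΦ e]
        · exact absurd (by rw [← hx, ← hx', e]) (hne g' σ' g σ)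
        · exact absurd (by rw [← hx, ← hx', e]) (hne g σ g' σ')
        · rw [hΦ (mul_left_cancel e)]
      · intro β
        rcases exists_semiAut_or hq β with ⟨g, σ, rfl⟩ | ⟨g, σ, rfl⟩
        · obtain ⟨x, hx⟩ := hmemΦ g σ
          exact ⟨(false, x), by simp [Ψ, hx]⟩
        · obtain ⟨x, hx⟩ := hmemΦ g σ
          exact ⟨(true, x), by simp [Ψ, hx]⟩
    rw [← Nat.card_eq_of_bijective Ψ hΨ, Nat.card_prod, hcardΦ, Nat.card_eq_fintype_card (α := Bool),
      Fintype.card_bool, if_pos ⟨rfl, rfl⟩]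
    ring
  · rw [if_neg h, one_mul, ← hcardΦ]
    refine (Nat.card_eq_of_bijective Φ ⟨hΦ, fun β => ?_⟩).symm
    obtain ⟨g, σ, rfl⟩ := exists_semiAut p hm (fun h1 h2 => h ⟨h1, h2⟩) β
    exact hmemΦ g σ

end CfsgLib.AutPSp
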