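import Cfsg.Agent.AutPSp.SylowCenter

/-!
# Transvections of `Sp_2m`, `m ≥ 3`, in characteristic two: the smallest class of central involutions
-/

set_option autoImplicit false

namespace CfsgLib.AutPSp

open Matrix CfsgLib.Forms CfsgLib.Forms4

variable {F : Type*} [Field F] {m : ℕ}

local notation "V" => Fin m ⊕ Fin m → F
local notation "SP" => Matrix.symplecticGroup (Fin m) F

/-- The conjugacy class. -/
def classSet {G : Type*} [Group G] (x : G) : Set G := {y | IsConj x y}

theorem card_classSet_map {G H : Type*} [Group G] [Group H] (e : G ≃* H) (x : G) :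
    Nat.card (classSet (e x)) = Nat.card (classSet x) := by
  refine (Nat.card_congr (Equiv.subtypeEquiv e.toEquiv fun y => ?_)).symm
  constructor
  · intro h; exact e.toMonoidHom.map_isConj h
  · intro h
    have := e.symm.toMonoidHom.map_isConj h
    change IsConj x y
    simpa using this

theorem center_eq_bot [CharP F 2] (hm : 1 ≤ m) : Subgroup.center SP = ⊥ := by
  rw [eq_bot_iff]
  intro z hz
  obtain ⟨r, hr⟩ := mem_center_iff.1 hz
  refine pow_char_center_eq_one 2 hm hz (k := 1) (Subtype.ext ?_)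
  rw [SubmonoidClass.coe_pow, hr, smul_pow, one_pow, pow_one, sq_eq_one_of_scalar hm hr, one_smul]
  rfl

/-- In characteristic two `Sp` is `PSp`. -/
noncomputable def mkEquiv [CharP F 2] (hm : 1 ≤ m) : SP ≃* Cfsg.PSp m F :=
  MulEquiv.ofBijective (QuotientGroup.mk' (Subgroup.center SP))
    ⟨(MonoidHom.ker_eq_bot_iff _).1 (by rw [QuotientGroup.ker_mk', center_eq_bot hm]),
      QuotientGroup.mk'_surjective _⟩

variable [Fintype F]

theorem card_classSet_mkT_le (w : V) (hw : w ≠ 0) (c : F) :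
    Nat.card (classSet (mkT w c)) ≤ Nat.card {v : V // v ≠ 0} := by
  classical
  haveI : Finite (Cfsg.PSp m F) := Quotient.finite _
  have h : ∀ y : classSet (mkT w c), ∃ v : {v : V // v ≠ 0}, y.1 = mkT v.1 c := by
    rintro ⟨y, hy⟩
    obtain ⟨g, hg⟩ := isConj_iff.1 (hy : IsConj (mkT w c) y)
    obtain ⟨A, rfl⟩ := QuotientGroup.mk_surjective g
    refine ⟨⟨A.1 *ᵥ w, mulVec_ne_zero A hw⟩, ?_⟩
    change y = _
    rw [← hg, mkT, mkT, ← QuotientGroup.mk_inv, ← QuotientGroup.mk_mul, ← QuotientGroup.mk_mul, conj_spTransv]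
  choose f hf using h
  exact Nat.card_le_card_of_injective f fun a b hab => Subtype.ext (by rw [hf a, hf b, hab])

theorem card_classSet_gt (hm : 3 ≤ m) {z : SP} {e a : V} (hea : Cfsg.sympForm m F e a = 0)
    (hli : LinearIndependent F ![e, a]) (he : ∃ x, z.1 *ᵥ x - x = e) (ha : ∃ x, z.1 *ᵥ x - x = a)
    (hrange : ∀ x, ∃ s t : F, z.1 *ᵥ x - x = s • e + t • a) :
    Nat.card {v : V // v ≠ 0} < Nat.card (classSet z) := by
  classical
  have : Finite SP := Subtype.finite
  set q := Fintype.card F with hq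
  let P := Σ u : {u : V // u ≠ 0}, {v : V // Cfsg.sympForm m F u.1 v = 0 ∧ ∀ s : F, v ≠ s • u.1}
  let R : SP → Set V := fun y => {d | ∃ x, y.1 *ᵥ x - x = d}
  let T := Σ y : classSet z, (R y.1) × (R y.1)
  have hR : ∀ y : classSet z, Nat.card (R y.1) ≤ q ^ 2 := by
    rintro ⟨y, hy⟩
    obtain ⟨A, rfl⟩ := isConj_iff.1 (hy : IsConj z y)
    have hsub : R (A * z * A⁻¹) ⊆ Set.range (fun st : F × F => A.1 *ᵥ (st.1 • e + st.2 • a)) := by
      rintro d ⟨x, rfl⟩
      obtain ⟨s, t, hst⟩ := hrange ((A⁻¹ : SP).1 *ᵥ x)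
      refine ⟨(s, t), ?_⟩
      change A.1 *ᵥ (s • e + t • a) = _
      rw [← hst, Matrix.mulVec_sub, mulVec_inv, coe_mul_mulVec, coe_mul_mulVec]
    calc Nat.card (R (A * z * A⁻¹))
        ≤ Nat.card (Set.range fun st : F × F => A.1 *ᵥ (st.1 • e + st.2 • a)) :=
          Nat.card_mono (Set.toFinite _) hsub
      _ ≤ Nat.card (F × F) := Finite.card_range_le _
      _ = q ^ 2 := by rw [Nat.card_prod, Nat.card_eq_fintype_card, ← hq, pow_two]
  have hT : Nat.card T ≤ Nat.card (classSet z) * q ^ 4 := by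
    haveI := Fintype.ofFinite (classSet z)
    rw [Nat.card_sigma, Nat.card_eq_fintype_card (α := classSet z), ← smul_eq_mul, ← Finset.card_univ,
      ← Finset.sum_const]
    refine Finset.sum_le_sum fun y _ => ?_
    rw [Nat.card_prod, show q ^ 4 = q ^ 2 * q ^ 2 by ring]
    exact Nat.mul_le_mul (hR y) (hR y)
  have hPT : Nat.card P ≤ Nat.card T := by
    have h : ∀ p : P, ∃ y : classSet z, p.1.1 ∈ R y.1 ∧ p.2.1 ∈ R y.1 := by
      rintro ⟨⟨u, hu⟩, ⟨v, huv, hv⟩⟩
      have hli' : LinearIndependent F ![u, v] := by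
        rw [LinearIndependent.pair_iff' hu]
        exact fun s h => hv s h.symm
      obtain ⟨A', hA'u, hA'v⟩ := exists_spGL_mulVec_pair hli hli' (by rw [hea, huv])
      obtain ⟨A, rfl⟩ := toSpGL_surjective A'
      change A.1 *ᵥ e = u at hA'u
      change A.1 *ᵥ a = v at hA'v
      obtain ⟨xe, hxe⟩ := he
      obtain ⟨xa, hxa⟩ := ha
      refine ⟨⟨A * z * A⁻¹, isConj_iff.2 ⟨A, rfl⟩⟩, ⟨A.1 *ᵥ xe, ?_⟩, ⟨A.1 *ᵥ xa, ?_⟩⟩
      · rw [coe_mul_mulVec, coe_mul_mulVec, inv_mulVec, ← Matrix.mulVec_sub, hxe, hA'u]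
      · rw [coe_mul_mulVec, coe_mul_mulVec, inv_mulVec, ← Matrix.mulVec_sub, hxa, hA'v]
    choose f hf1 hf2 using h
    refine Nat.card_le_card_of_injective (fun p => (⟨f p, ⟨p.1.1, hf1 p⟩, ⟨p.2.1, hf2 p⟩⟩ : T)) ?_
    rintro p p' h
    obtain ⟨h1, h2⟩ := Sigma.mk.inj_iff.1 h
    revert h2
    generalize_proofs a1 a2 a3 a4
    revert a1 a2 a3 a4
    rw [h1]
    intro a1 a2 a3 a4 h2
    have h3 := eq_of_heq h2
    have e1 : p.1.1 = p'.1.1 := congrArg (fun x => x.1.1) h3
    have e2 : p.2.1 = p'.2.1 := congrArg (fun x => x.2.1) h3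
    obtain ⟨⟨u, hu⟩, ⟨v, hv⟩⟩ := p
    obtain ⟨⟨u', hu'⟩, ⟨v', hv'⟩⟩ := p'
    simp only at e1 e2
    subst e1 e2
    rfl
  have hP : Nat.card {v : V // v ≠ 0} * (q ^ (2 * m - 1) - q) ≤ Nat.card P := by
    rw [Nat.card_sigma, Nat.card_eq_fintype_card, ← smul_eq_mul, ← Finset.card_univ, ← Finset.sum_const]
    refine Finset.sum_le_sum fun u _ => ?_
    obtain ⟨z0, hz0, -⟩ := exists_sympForm_ne_zero_two u.2 u.2
    set z1 := (Cfsg.sympForm m F u.1 z0)⁻¹ • z0 with hz1
    have hfz1 : Cfsg.sympForm m F u.1 z1 = 1 := by rw [hz1, sympForm_smul_right, inv_mul_cancel₀ hz0]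
    let K : Set V := {v | Cfsg.sympForm m F u.1 v = 0}
    have hK : q * Nat.card K = q ^ (2 * m) := by
      have e : V ≃ F × K :=
        { toFun := fun v => (Cfsg.sympForm m F u.1 v, ⟨v + (-Cfsg.sympForm m F u.1 v) • z1, by
            change Cfsg.sympForm m F u.1 _ = 0
            rw [sympForm_add_right, sympForm_smul_right, hfz1]; ring⟩)
          invFun := fun sk => sk.2.1 + sk.1 • z1
          left_inv := fun v => by simp
          right_inv := fun sk => by
            obtain ⟨s, k, hk⟩ := sk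
            have hk' : Cfsg.sympForm m F u.1 k = 0 := hk
            have hs : Cfsg.sympForm m F u.1 (k + s • z1) = s := by
              rw [sympForm_add_right, sympForm_smul_right, hfz1, hk']; ring
            simp [hs] }
      have h := Nat.card_congr e
      rw [Nat.card_prod, Nat.card_fun, Nat.card_eq_fintype_card (α := F), Nat.card_eq_fintype_card (α := Fin m ⊕ Fin m),
        Fintype.card_sum, Fintype.card_fin, ← two_mul, ← hq] at h
      exact h.symm
    have hKc : Nat.card K = q ^ (2 * m - 1) := by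
      refine Nat.eq_of_mul_eq_mul_left (Fintype.card_pos : 0 < q) ?_
      rw [hK, ← pow_succ']
      congr 1
      omega
    let L : Set V := Set.range fun s : F => s • u.1
    have hL : L.ncard ≤ q := by
      have := Finite.card_range_le (fun s : F => s • u.1)
      rw [Nat.card_coe_set_eq, Nat.card_eq_fintype_card, ← hq] at this
      exact this
    have hd := Set.le_ncard_diff L K
    rw [← Nat.card_coe_set_eq K, hKc] at hd
    refine le_trans (le_trans (Nat.sub_le_sub_left hL _) hd) (le_of_eq ?_)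
    rw [← Nat.card_coe_set_eq]
    refine Nat.card_congr (Equiv.subtypeEquivRight fun v => ?_)
    simp only [Set.mem_sdiff, K, L, Set.mem_setOf_eq, Set.mem_range, not_exists]
    exact and_congr_right fun _ => forall_congr' fun s => ne_comm
  have hq2 : 2 ≤ q := Fintype.one_lt_card
  have hbig : q ^ 4 < q ^ (2 * m - 1) - q := by
    have h5 : q ^ 5 ≤ q ^ (2 * m - 1) := Nat.pow_le_pow_right (by omega) (by omega)
    have h1 : q ^ 4 * 2 ≤ q ^ 5 := by rw [pow_succ q 4]; exact Nat.mul_le_mul_left _ hq2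
    have h2 : q < q ^ 4 := by
      calc q = q ^ 1 := (pow_one q).symm
        _ < q ^ 4 := Nat.pow_lt_pow_right (by omega) (by norm_num)
    omega
  have hN : 0 < Nat.card {v : V // v ≠ 0} := by
    haveI : Nonempty {v : V // v ≠ 0} := ⟨⟨e, by
      intro h0; have := hli.ne_zero 0; simp [h0] at this⟩⟩
    exact Nat.card_pos
  have hall := (hP.trans hPT).trans hT
  by_contra hcon
  push Not at hcon
  have h1 : Nat.card (classSet z) * q ^ 4 ≤ Nat.card {v : V // v ≠ 0} * q ^ 4 := Nat.mul_le_mul_right _ hcon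
  have h2 : Nat.card {v : V // v ≠ 0} * q ^ 4 < Nat.card {v : V // v ≠ 0} * (q ^ (2 * m - 1) - q) :=
    Nat.mul_lt_mul_of_pos_left hbig hN
  omega

/-- For `m ≥ 3` in characteristic two every automorphism preserves the transvections. -/
theorem preserves_transv_two [CharP F 2] (hm : 3 ≤ m) (β : MulAut (Cfsg.PSp m F)) (x : Cfsg.PSp m F)
    (hx : IsTransv x) : IsTransv (β x) := by
  classical
  obtain ⟨w, c, hw, hc, rfl⟩ := hx
  haveI : Finite (Cfsg.PSp m F) := Quotient.finite _
  have : Fact (Nat.Prime 2) := ⟨Nat.prime_two⟩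
  obtain ⟨P, hP, hcen⟩ := exists_sylow_mkT 2 (by omega : 1 ≤ m) hw c
  let P' := P.mapSurjective (f := β.toMonoidHom) β.surjective
  have hmem : β (mkT w c) ∈ (P' : Subgroup (Cfsg.PSp m F)) := by
    simp only [P', Sylow.coe_mapSurjective]
    exact Subgroup.mem_map_of_mem _ hP
  obtain ⟨S, z, hz, hzc, hzx⟩ := exists_lift_sylow_center 2 (by omega) P' hmem fun y hy => by
    simp only [P', Sylow.coe_mapSurjective, Subgroup.mem_map] at hy
    obtain ⟨y0, hy0, rfl⟩ := hy
    change β y0 * β _ = β _ * β y0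
    rw [← map_mul, ← map_mul, hcen y0 hy0]
  have hsmall : Nat.card (classSet z) ≤ Nat.card {v : V // v ≠ 0} := by
    rw [← card_classSet_map (mkEquiv (F := F) (by omega : 1 ≤ m))]
    change Nat.card (classSet (QuotientGroup.mk z : Cfsg.PSp m F)) ≤ _
    rw [← hzx, card_classSet_map]
    exact card_classSet_mkT_le w hw c
  obtain ⟨e, he0, he⟩ := exists_fixed_vector 2 (by omega : 1 ≤ m) (S : Subgroup SP) S.2
  rcases radical_cases he0 (sylow_center_form 2 S he0 he hz hzc).1 with
    ⟨d, rfl⟩ | ⟨a, hea, hli, h1, h2, h3, -⟩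
  · refine ⟨e, d, he0, ?_, hzx⟩
    rintro rfl
    have h0 : (spTransv e (0 : F)) = (1 : SP) := sp_ext fun x => by simp [spTransv_mulVec]
    rw [h0, QuotientGroup.mk_one, map_eq_one_iff _ β.injective] at hzx
    exact spTransv_ne_one hw hc
      ((mkEquiv (F := F) (m := m) (by omega)).injective (by rw [map_one]; exact hzx))
  · exact absurd hsmall (not_le.2 (card_classSet_gt hm hea hli h1 h2 h3))

/-- Every automorphism of `PSp_2m`, `m ≥ 2` and `(m, p) ≠ (2, 2)`, is semilinear. -/
theorem exists_semiAut (p : ℕ) [Fact p.Prime] [CharP F p] (hm : 2 ≤ m) (h4 : m = 2 → p ≠ 2)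
    (β : MulAut (Cfsg.PSp m F)) : ∃ g σ, β = semiAut (m := m) (F := F) g σ := by
  refine exists_semiAut_of_preserves hm β fun x hx => ?_
  by_cases hp : p = 2
  · subst hp
    exact preserves_transv_two (by have := fun h => h4 h rfl; omega) β x hx
  · exact preserves_transv_odd p (by omega) hp β x hx

end CfsgLib.AutPSp
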