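import Cfsg.Agent.AutPSp.Similitude
import Cfsg.Agent.AutPSL.Transport

/-!
# Field automorphisms of prime order of `PSp_2m`
-/

set_option autoImplicit false

namespace CfsgLib.AutPSp

open Matrix CfsgLib.Forms CfsgLib.Forms4
open CfsgLib.AutPSL (mapGL twNorm unitsNorm fixedUnits)

variable {F : Type*} [Field F] [Fintype F] {m : ℕ}

local notation "V" => Fin m ⊕ Fin m → F
local notation "ι₂" => Fin m ⊕ Fin m

/-- A field automorphism on similitudes. -/
noncomputable def mapGSp (σ : F ≃+* F) : ↥(Cfsg.GSp m F) →* ↥(Cfsg.GSp m F) :=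
  ((mapGL σ).comp (Cfsg.GSp m F).subtype).codRestrict _ fun g => map_mem_GSp σ g.2

theorem mapGSp_val (σ : F ≃+* F) (g : ↥(Cfsg.GSp m F)) : (mapGSp σ g).1 = mapGL σ g.1 := rfl

theorem field_conj (σ : F ≃+* F) (g : ↥(Cfsg.GSp m F)) :
    fieldSp σ * conjSp g = conjSp (mapGSp σ g) * fieldSp σ := fieldSp_mul_conjSp σ g _

theorem conjSp_fieldSp_pow (σ : F ≃+* F) (g : ↥(Cfsg.GSp m F)) (k : ℕ) :
    ∃ n : ↥(Cfsg.GSp m F), n.1 = twNorm σ g.1 k ∧
      (conjSp g * fieldSp σ) ^ k = conjSp n * fieldSp (σ ^ k) := by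
  induction k with
  | zero => exact ⟨1, rfl, by simp⟩
  | succ k ih =>
    obtain ⟨n, hn, he⟩ := ih
    refine ⟨g * mapGSp σ n, ?_, ?_⟩
    · rw [Subgroup.coe_mul, mapGSp_val, hn, CfsgLib.AutPSL.twNorm_succ]
    · rw [pow_succ', he, mul_assoc, ← mul_assoc (fieldSp σ), field_conj, pow_succ', map_mul, map_mul]
      simp only [mul_assoc]

theorem orderOf_field (hm : 2 ≤ m) (σ : F ≃+* F) :
    orderOf (toPSpAut (fieldSp (m := m) σ)) = orderOf σ := by
  obtain ⟨p, hp⟩ := CharP.exists F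
  have : Fact p.Prime := ⟨CharP.char_is_prime F p⟩
  exact orderOf_injective (toPSpAut.comp (fieldSp (m := m)))
    ((toPSpAut_injective p (by omega)).comp (fieldSp_injective hm)) σ

theorem isConj_field_of_pow_eq_one (hm : 2 ≤ m) {σ : F ≃+* F} {r : ℕ} (hr : orderOf σ = r) (hr0 : 0 < r)
    (a : ↥(Cfsg.GSp m F)) (hpow : (toPSpAut (conjSp a * fieldSp σ)) ^ r = 1) :
    ∃ h : ↥(Cfsg.GSp m F), toPSpAut (conjSp a * fieldSp σ) =
      toPSpAut (conjSp h) * toPSpAut (fieldSp σ) * (toPSpAut (conjSp h))⁻¹ := by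
  obtain ⟨p, hp⟩ := CharP.exists F
  have : Fact p.Prime := ⟨CharP.char_is_prime F p⟩
  obtain ⟨n, hn, he⟩ := conjSp_fieldSp_pow σ a r
  rw [← map_pow, map_eq_one_iff _ (toPSpAut_injective p (by omega : 1 ≤ m)), he] at hpow
  obtain ⟨-, c, hc⟩ := semilinear_faithful hm hpow
  obtain ⟨u, h, hh, ha⟩ := exists_gsp_descent (by omega : 1 ≤ m) hr hr0 (hn ▸ hc)
  refine ⟨⟨h, hh⟩, ?_⟩
  have ha' : a = ⟨_, scalar_mem_GSp u⟩ * ((⟨h, hh⟩ : ↥(Cfsg.GSp m F)) * (mapGSp σ ⟨h, hh⟩)⁻¹) :=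
    Subtype.ext (by rw [Subgroup.coe_mul, Subgroup.coe_mul, Subgroup.coe_inv, mapGSp_val, ha])
  rw [← map_mul, ← map_inv, ← map_mul, ha', map_mul conjSp, (conjSp_eq_one_iff hm).2 ⟨u, rfl⟩, one_mul,
    map_mul conjSp, ← map_inv (mapGSp σ), mul_assoc, ← field_conj, map_inv, mul_assoc]

theorem commute_field_iff (hm : 2 ≤ m) {σ : F ≃+* F} {r : ℕ} (hr : orderOf σ = r) (hr0 : 0 < r)
    (a : ↥(Cfsg.GSp m F)) :
    toPSpAut (conjSp a) * toPSpAut (fieldSp σ) = toPSpAut (fieldSp σ) * toPSpAut (conjSp a) ↔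
      ∃ (u : Fˣ) (g₀ : GL ι₂ F), mapGL σ g₀ = g₀ ∧ a.1 = Matrix.GeneralLinearGroup.scalar ι₂ u * g₀ := by
  obtain ⟨p, hp⟩ := CharP.exists F
  have : Fact p.Prime := ⟨CharP.char_is_prime F p⟩
  haveI : Nonempty ι₂ := ⟨Sum.inl ⟨0, by omega⟩⟩
  rw [← map_mul, ← map_mul, (toPSpAut_injective p (by omega : 1 ≤ m)).eq_iff, field_conj, mul_left_inj]
  constructor
  · intro h
    obtain ⟨w, hw⟩ := (conjSp_eq_one_iff hm (g := mapGSp σ a * a⁻¹)).1 (by
      rw [map_mul, ← h, map_inv, mul_inv_cancel])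
    refine exists_fixed_of_map_eq hr hr0 (a := w) ?_
    rw [← mul_inv_eq_iff_eq_mul]
    exact hw
  · rintro ⟨u, g₀, hg₀, ha⟩
    have hb : g₀ ∈ Cfsg.GSp m F := by
      have : g₀ = (Matrix.GeneralLinearGroup.scalar ι₂ u)⁻¹ * a.1 := by rw [ha, inv_mul_cancel_left]
      rw [this]
      exact mul_mem (inv_mem (scalar_mem_GSp u)) a.2
    have ha' : a = ⟨_, scalar_mem_GSp u⟩ * ⟨g₀, hb⟩ := Subtype.ext ha
    have hfix : mapGSp σ ⟨g₀, hb⟩ = ⟨g₀, hb⟩ := Subtype.ext hg₀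
    have hsc : conjSp (mapGSp σ (⟨_, scalar_mem_GSp u⟩ : ↥(Cfsg.GSp m F))) = 1 := by
      refine (conjSp_eq_one_iff hm).2 ⟨Units.map (σ : F →* F) u, Units.ext ?_⟩
      ext i j
      by_cases hij : i = j <;> simp [mapGSp_val, hij]
    rw [ha', map_mul, map_mul, map_mul, hsc, hfix, (conjSp_eq_one_iff hm).2 ⟨u, rfl⟩]

/-- The reduction of a field automorphism to a standard one. -/
theorem fieldAutClass_cases {x : MulAut (Cfsg.PSp m F)} (hx : Cfsg.IsFieldAutClassPSp x) :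
    ∃ (α : MulAut (Cfsg.PSp m F)) (σ : F ≃+* F), x = α * toPSpAut (fieldSp σ) * α⁻¹ := by
  obtain ⟨α, σ, -, h⟩ := hx
  rw [isStdFieldAutPSp_iff] at h
  exact ⟨α⁻¹, σ, by rw [← h]; group⟩

theorem splitClassCount_field (hm : 2 ≤ m) {σ : F ≃+* F} {r : ℕ} (hr : orderOf σ = r) (hr0 : 0 < r) :
    Cfsg.splitClassCount (Cfsg.inndiagPSp m F) (Cfsg.Inn (Cfsg.PSp m F)) (toPSpAut (fieldSp σ)) =
      ((powMonoidHom 2 : Fˣ →* Fˣ).range ⊔ fixedUnits σ).index := by
  have hm1 : 1 ≤ m := by omega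
  haveI : ((spToGSp (F := F) (m := m)).range).Normal := by
    rw [← mult_ker hm1]; infer_instance
  rw [inndiagPSp_eq, inn_eq_range, MonoidHom.range_comp, CfsgLib.AutPSL.splitClassCount_eq_index,
    CfsgLib.AutPSL.index_eq_map_index (mult hm1) (mult_surjective hm1) _
      (by rw [mult_ker hm1]; exact le_sup_left), Subgroup.map_sup, ← mult_ker hm1,
    (Subgroup.map_eq_bot_iff _).2 le_rfl, bot_sup_eq]
  congr 1
  refine le_antisymm ?_ (sup_le ?_ ?_)
  · rintro _ ⟨a, ha, rfl⟩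
    obtain ⟨u, g₀, hg₀, hag⟩ := (commute_field_iff hm hr hr0 a).1 (Subgroup.mem_centralizer_singleton_iff.1 ha)
    have hb : g₀ ∈ Cfsg.GSp m F := by
      have : g₀ = (Matrix.GeneralLinearGroup.scalar ι₂ u)⁻¹ * a.1 := by rw [hag, inv_mul_cancel_left]
      rw [this]
      exact mul_mem (inv_mem (scalar_mem_GSp u)) a.2
    rw [show a = ⟨_, scalar_mem_GSp u⟩ * (⟨g₀, hb⟩ : ↥(Cfsg.GSp m F)) from Subtype.ext hag, map_mul, mult_scalar]
    refine Subgroup.mul_mem_sup ⟨u, by simp [pow_two]⟩ ?_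
    obtain ⟨a₀, b₀, hab⟩ := exists_pair_one (F := F) hm1
    rw [CfsgLib.AutPSL.mem_fixedUnits]
    set e₁ : V := Pi.single (Sum.inr ⟨0, hm1⟩) 1
    set e₂ : V := Pi.single (Sum.inl ⟨0, hm1⟩) 1
    have he : ∀ i, (σ ∘ (Pi.single i (1 : F) : V)) = Pi.single i 1 := fun i => by
      funext k; by_cases hk : k = i <;> simp [hk]
    have h1 : Cfsg.sympForm m F e₁ e₂ = 1 := by rw [sympForm_single_inl]; simp [e₁]
    have h2 := mult_spec hm1 (⟨g₀, hb⟩ : ↥(Cfsg.GSp m F)) e₁ e₂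
    rw [h1, mul_one] at h2
    have hmap : g₀.1.map σ = g₀.1 := congrArg Units.val hg₀
    conv_rhs => rw [← h2]
    conv_lhs => rw [← h2]
    rw [← sympForm_map_field, ← map_mulVec_field, ← map_mulVec_field, hmap, he, he]
  · rintro _ ⟨u, rfl⟩
    refine ⟨⟨_, scalar_mem_GSp u⟩, Subgroup.mem_centralizer_singleton_iff.2 ?_, by rw [mult_scalar]; simp [pow_two]⟩
    exact (commute_field_iff hm hr hr0 _).2 ⟨u, 1, map_one _, (mul_one _).symm⟩
  · intro c hc
    let d : ι₂ → Fˣ := Sum.elim (fun _ => c) (fun _ => 1)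
    let D : GL ι₂ F := Units.map (Matrix.diagonalRingHom ι₂ F).toMonoidHom (MulEquiv.piUnits.symm d)
    have hD : ∀ u v, Cfsg.sympForm m F (D.1 *ᵥ u) (D.1 *ᵥ v) = (c : F) * Cfsg.sympForm m F u v := by
      intro u v
      have hval : D.1 = Matrix.diagonal fun i => (d i : F) := rfl
      simp only [sympForm_eq_sum, hval, Matrix.mulVec_diagonal, d, Sum.elim_inl, Sum.elim_inr,
        Units.val_one, one_mul, Finset.mul_sum]
      exact Finset.sum_congr rfl fun i _ => by ring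
    have hDfix : mapGL σ D = D := by
      apply Units.ext
      ext i j
      change σ (Matrix.diagonal (fun i => (d i : F)) i j) = Matrix.diagonal (fun i => (d i : F)) i j
      by_cases hij : i = j
      · subst hij
        rcases i with i | i
        · simpa [d] using CfsgLib.AutPSL.mem_fixedUnits.1 hc
        · simp [d]
      · simp [hij]
    refine ⟨⟨D, mem_GSp_iff.2 ⟨c, hD⟩⟩, Subgroup.mem_centralizer_singleton_iff.2 ?_, mult_eq hm1 hD⟩
    exact (commute_field_iff hm hr hr0 _).2 ⟨1, D, hDfix, by rw [map_one, one_mul]⟩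

theorem nonempty_centralizer_field (hm : 2 ≤ m) {σ : F ≃+* F} {r : ℕ} (hr : orderOf σ = r) (hr0 : 0 < r)
    {F₀ : Type*} [Field F₀] (e : F₀ →+* F) (he : ∀ x : F, σ x = x ↔ x ∈ Set.range e) :
    Nonempty (↥(Cfsg.inndiagPSp m F ⊓ Subgroup.centralizer {toPSpAut (fieldSp σ)}) ≃* Cfsg.PGSp m F₀) := by
  obtain ⟨p, hp⟩ := CharP.exists F
  have : Fact p.Prime := ⟨CharP.char_is_prime F p⟩
  have hm1 : 1 ≤ m := by omega
  have hJ : (Matrix.J (Fin m) F₀).map e = Matrix.J (Fin m) F := by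
    ext i j
    rcases i with i | i <;> rcases j with j | j <;>
      by_cases h : i = j <;> simp [Matrix.J, Matrix.one_apply, h]
  have hmem : ∀ b : ↥(Cfsg.GSp m F₀), Matrix.GeneralLinearGroup.map e b.1 ∈ Cfsg.GSp m F := by
    intro b
    obtain ⟨c, hc⟩ := mem_GSp_iff_matrix.1 b.2
    refine mem_GSp_iff_matrix.2 ⟨Units.map (e : F₀ →* F) c, ?_⟩
    have h := congrArg (fun A : Matrix ι₂ ι₂ F₀ => A.map e) hc
    simp only [Matrix.map_mul, Matrix.transpose_map, hJ] at h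
    refine h.trans ?_
    ext i j
    rw [Matrix.map_apply, Matrix.smul_apply, Matrix.smul_apply, ← hJ, Matrix.map_apply, smul_eq_mul, smul_eq_mul, map_mul]
    rfl
  let E : ↥(Cfsg.GSp m F₀) →* ↥(Cfsg.GSp m F) :=
    ((Matrix.GeneralLinearGroup.map e).comp (Cfsg.GSp m F₀).subtype).codRestrict _ hmem
  have hEfix : ∀ b, mapGL σ (E b).1 = (E b).1 := fun b =>
    Units.ext (Matrix.ext fun i j => (he _).2 ⟨b.1.1 i j, rfl⟩)
  let ψ : ↥(Cfsg.GSp m F₀) →* ↥(Cfsg.inndiagPSp m F ⊓ Subgroup.centralizer {toPSpAut (fieldSp (m := m) σ)}) :=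
    (innDiagHom.comp E).codRestrict _ fun b => ⟨mem_inndiagPSp_iff.2 ⟨_, rfl⟩,
      Subgroup.mem_centralizer_singleton_iff.2
        ((commute_field_iff hm hr hr0 _).2 ⟨1, (E b).1, hEfix b, by rw [map_one, one_mul]⟩)⟩
  have hsurj : Function.Surjective ψ := by
    rintro ⟨y, hy, hyc⟩
    obtain ⟨a, rfl⟩ := mem_inndiagPSp_iff.1 hy
    obtain ⟨u, g₀, hg₀, hag⟩ := (commute_field_iff hm hr hr0 a).1 (Subgroup.mem_centralizer_singleton_iff.1 hyc)
    have hb : g₀ ∈ Cfsg.GSp m F := by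
      have : g₀ = (Matrix.GeneralLinearGroup.scalar ι₂ u)⁻¹ * a.1 := by rw [hag, inv_mul_cancel_left]
      rw [this]
      exact mul_mem (inv_mem (scalar_mem_GSp u)) a.2
    have hent : ∀ i j, ∃ y, e y = g₀.1 i j := fun i j =>
      (he _).1 (congrArg (fun M : GL ι₂ F => M.1 i j) hg₀)
    choose B hB using hent
    have hBmap : (Matrix.of B).map e = g₀.1 := Matrix.ext hB
    have hdet : (Matrix.of B).det ≠ 0 := by
      intro h0
      have := e.map_det (Matrix.of B)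
      rw [h0, map_zero, RingHom.mapMatrix_apply, hBmap] at this
      exact g₀.det.ne_zero (by simp [← this])
    obtain ⟨k, hk⟩ := mem_GSp_iff_matrix.1 hb
    have hkfix : σ (k : F) = k := by
      have h1 : (g₀.1ᵀ * Matrix.J (Fin m) F * g₀.1).map σ = g₀.1ᵀ * Matrix.J (Fin m) F * g₀.1 := by
        rw [Matrix.map_mul, Matrix.map_mul, Matrix.transpose_map, J_map,
          show g₀.1.map σ = g₀.1 from congrArg Units.val hg₀]
      rw [hk] at h1
      have h' := congrFun (congrFun h1 (Sum.inr ⟨0, hm1⟩)) (Sum.inl ⟨0, hm1⟩)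
      simpa [Matrix.J, Matrix.one_apply] using h'
    obtain ⟨k₀, hk₀⟩ := (he _).1 hkfix
    have hk₀0 : k₀ ≠ 0 := fun h0 => k.ne_zero (by rw [← hk₀, h0, map_zero])
    have hbmem : Matrix.GeneralLinearGroup.mkOfDetNeZero _ hdet ∈ Cfsg.GSp m F₀ := by
      refine mem_GSp_iff_matrix.2 ⟨Units.mk0 k₀ hk₀0, ?_⟩
      apply Matrix.map_injective e.injective
      change ((Matrix.of B)ᵀ * Matrix.J (Fin m) F₀ * Matrix.of B).map e = _
      rw [Matrix.map_mul, Matrix.map_mul, Matrix.transpose_map, hJ, hBmap, hk]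
      ext i j
      beta_reduce
      rw [Matrix.map_apply, Matrix.smul_apply, Matrix.smul_apply, ← hJ, Matrix.map_apply, smul_eq_mul, smul_eq_mul,
        map_mul, Units.val_mk0, hk₀]
    refine ⟨⟨_, hbmem⟩, Subtype.ext ?_⟩
    change toPSpAut (conjSp (E ⟨_, hbmem⟩)) = toPSpAut (conjSp a)
    rw [show a = ⟨_, scalar_mem_GSp u⟩ * E ⟨_, hbmem⟩ from Subtype.ext
      (hag.trans (congrArg (Matrix.GeneralLinearGroup.scalar ι₂ u * ·) (Units.ext hBmap.symm))),
      map_mul conjSp, (conjSp_eq_one_iff hm (g := ⟨_, scalar_mem_GSp u⟩)).2 ⟨u, rfl⟩, one_mul]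
  have hker : ψ.ker = (Cfsg.Geo.scalars ι₂ F₀).subgroupOf (Cfsg.GSp m F₀) := by
    rw [show ψ.ker = (innDiagHom.comp E).ker from MonoidHom.ker_codRestrict _ _ _]
    ext b
    rw [MonoidHom.mem_ker, Subgroup.mem_subgroupOf, Cfsg.Geo.mem_scalars_iff]
    change toPSpAut (conjSp (E b)) = 1 ↔ _
    rw [map_eq_one_iff _ (toPSpAut_injective p hm1), conjSp_eq_one_iff hm]
    constructor
    · rintro ⟨u, hu⟩
      have h00 := congrArg (fun M : GL ι₂ F => M.1 (Sum.inl ⟨0, hm1⟩) (Sum.inl ⟨0, hm1⟩)) hu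
      change e (b.1.1 _ _) = _ at h00
      simp at h00
      have hb0 : b.1.1 (Sum.inl ⟨0, hm1⟩) (Sum.inl ⟨0, hm1⟩) ≠ 0 := by
        intro h0
        rw [h0, map_zero] at h00
        exact u.ne_zero h00.symm
      refine ⟨Units.mk0 _ hb0, Matrix.ext fun i j => e.injective ?_⟩
      have hij := congrArg (fun M : GL ι₂ F => M.1 i j) hu
      change e (b.1.1 i j) = _ at hij
      by_cases hij' : i = j
      · subst hij'; simp at hij; simp [hij, h00]
      · simp [hij'] at hij; simp [hij', hij]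
    · rintro ⟨u, hu⟩
      refine ⟨Units.map (e : F₀ →* F) u, Units.ext (Matrix.ext fun i j => ?_)⟩
      change e (b.1.1 i j) = _
      by_cases hij' : i = j <;> simp [hu, hij']
  exact ⟨((QuotientGroup.quotientMulEquivOfEq hker.symm).trans
    (QuotientGroup.quotientKerEquivOfSurjective ψ hsurj)).symm⟩

end CfsgLib.AutPSp
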