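import Cfsg.Agent.AutPSp.AutOrder
import Cfsg.Agent.Forms.SymplecticOrder
import Cfsg.Agent.AutPSL.Involution
import Cfsg.Agent.AutPSL.LocalBalance

/-!
# Local balance at field automorphisms of `PSp_2m`
-/

set_option autoImplicit false

namespace CfsgLib.AutPSp

open Matrix CfsgLib.Forms CfsgLib.Forms4
open scoped LinearAlgebra.Projectivization
open CfsgLib.AutPSL (mapGL)

attribute [local instance] spAction

variable {F : Type*} [Field F] {m : ℕ}

local notation "V" => Fin m ⊕ Fin m → F
local notation "ι₂" => Fin m ⊕ Fin m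
local notation "SP" => Matrix.symplecticGroup (Fin m) F

section Map

variable {K : Type*} [Field K] (e : K →+* F)

theorem J_map_hom : (Matrix.J (Fin m) K).map e = Matrix.J (Fin m) F := by
  ext i j
  rcases i with i | i <;> rcases j with j | j <;>
    by_cases h : i = j <;> simp [Matrix.J, Matrix.one_apply, h]

/-- Extension of scalars on `Sp`. -/
def spMap : Matrix.symplecticGroup (Fin m) K →* SP where
  toFun B := ⟨B.1.map e, by
    have h := congrArg (fun A : Matrix ι₂ ι₂ K => A.map e) (SymplecticGroup.mem_iff.1 B.2)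
    simp only [Matrix.map_mul, Matrix.transpose_map, J_map_hom e] at h
    exact SymplecticGroup.mem_iff.2 h⟩
  map_one' := Subtype.ext (Matrix.map_one e (map_zero e) (map_one e))
  map_mul' A B := Subtype.ext (Matrix.map_mul (f := e))

theorem spMap_val (B : Matrix.symplecticGroup (Fin m) K) : (spMap e B).1 = B.1.map e := rfl

theorem spMap_injective : Function.Injective (spMap (m := m) e) := fun _ _ h =>
  Subtype.ext (Matrix.map_injective e.injective (congrArg Subtype.val h))

theorem spMap_spTransv (w : ι₂ → K) (c : K) : spMap e (spTransv w c) = spTransv (e ∘ w) (e c) := by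
  apply Subtype.ext
  change ((1 : Matrix ι₂ ι₂ K) + c • Matrix.vecMulVec w (Matrix.J (Fin m) K *ᵥ w)).map e =
    1 + e c • Matrix.vecMulVec (e ∘ w) (Matrix.J (Fin m) F *ᵥ (e ∘ w))
  have hJ : e ∘ (Matrix.J (Fin m) K *ᵥ w) = Matrix.J (Fin m) F *ᵥ (e ∘ w) := by
    funext i
    rw [Function.comp_apply, RingHom.map_mulVec, J_map_hom]
  ext i j
  rw [← hJ]
  by_cases h : i = j <;> simp [Matrix.vecMulVec, Matrix.one_apply, h]

end Map

variable [Fintype F]

/-- An automorphism fixing one transvection is semilinear. -/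
theorem exists_semiAut_of_fixed (hm : 2 ≤ m) (y : MulAut (Cfsg.PSp m F)) {w : V} {c : F} (hw : w ≠ 0)
    (hc : c ≠ 0) (hy : y (mkT w c) = mkT w c) : ∃ g τ, y = semiAut g τ := by
  classical
  obtain ⟨p, hp⟩ := CharP.exists F
  have : Fact p.Prime := ⟨CharP.char_is_prime F p⟩
  by_cases h2 : p = 2
  · subst h2
    refine exists_semiAut_of_preserves hm y ?_
    rintro x ⟨v, d, hv, hd, rfl⟩
    exact isTransv_conj (x := y (mkT w c)) (by rw [hy]; exact ⟨w, c, hw, hc, rfl⟩)
      (y.toMonoidHom.map_isConj (mkT_isConj hw hv hc hd))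
  · exact exists_semiAut p hm (fun _ => h2) y

/-- The automorphisms centralising the fixed symplectic group. -/
theorem eq_field_of_fix (hm : 2 ≤ m) {σ : F ≃+* F} (y : MulAut (Cfsg.PSp m F))
    (hy : ∀ (w : V) (c : F), w ≠ 0 → c ≠ 0 → (∀ i, σ (w i) = w i) → σ c = c → y (mkT w c) = mkT w c) :
    y ∈ Subgroup.zpowers (toPSpAut (fieldSp (m := m) σ)) := by
  classical
  obtain ⟨p, hp⟩ := CharP.exists F
  have : Fact p.Prime := ⟨CharP.char_is_prime F p⟩
  have hm1 : 1 ≤ m := by omega
  obtain ⟨o⟩ : Nonempty (Fin m) := ⟨⟨0, by omega⟩⟩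
  have hfix1 : ∀ k, (Pi.single k (1 : F) : V) ≠ 0 ∧ ∀ i, σ ((Pi.single k (1 : F) : V) i) = (Pi.single k (1 : F) : V) i :=
    fun k => ⟨by simp, fun i => by by_cases h : i = k <;> simp [h]⟩
  obtain ⟨g, τ, rfl⟩ := exists_semiAut_of_fixed hm y (hfix1 (Sum.inl o)).1 one_ne_zero
    (hy _ 1 (hfix1 _).1 one_ne_zero (hfix1 _).2 (map_one σ))
  obtain ⟨μ, hμ, hμe⟩ := conjSp_spTransv g
  have hval : ∀ w c, semiAut g τ (mkT w c) = mkT (g.1.1 *ᵥ (τ ∘ w)) (τ c * μ) := fun w c => by
    change toPSpAut _ (QuotientGroup.mk (spTransv w c)) = _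
    rw [toPSpAut_mk, MulAut.mul_apply, fieldSp_spTransv, hμe]
    rfl
  have key : ∀ w : V, w ≠ 0 → (∀ i, σ (w i) = w i) → ∃ t : F, g.1.1 *ᵥ (τ ∘ w) = t • w := fun w hw hwf => by
    have h := hy w 1 hw one_ne_zero hwf (map_one σ)
    rw [hval] at h
    exact line_of_spTransv_eq hw one_ne_zero (eq_of_mkT_eq p hm1 h).symm
  have hsingle : ∀ i, (τ ∘ (Pi.single i (1 : F) : V)) = Pi.single i 1 := fun i => by
    funext k; by_cases hk : k = i <;> simp [hk]
  choose t ht using fun i => key (Pi.single i 1) (hfix1 i).1 (hfix1 i).2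
  have hG : ∀ r i, g.1.1 r i = if r = i then t i else 0 := by
    intro r i
    have h1 := congrFun (ht i) r
    rw [hsingle, Matrix.mulVec_single_one] at h1
    simpa [Pi.single_apply] using h1
  have hconst : ∀ i, t i = t (Sum.inl o) := by
    intro i
    by_cases hi : i = Sum.inl o
    · rw [hi]
    have hw : (Pi.single i 1 + Pi.single (Sum.inl o) 1 : V) ≠ 0 := fun h0 => by
      simpa [hi] using congrFun h0 i
    obtain ⟨s, hs⟩ := key _ hw fun k => by
      simp only [Pi.add_apply, map_add, (hfix1 i).2, (hfix1 (Sum.inl o)).2]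
    have hτ : (τ ∘ (Pi.single i 1 + Pi.single (Sum.inl o) 1 : V)) = Pi.single i 1 + Pi.single (Sum.inl o) 1 := by
      funext k
      rw [Function.comp_apply, Pi.add_apply, map_add]
      exact congrArg₂ (· + ·) (congrFun (hsingle i) k) (congrFun (hsingle (Sum.inl o)) k)
    rw [hτ, Matrix.mulVec_add, Matrix.mulVec_single_one, Matrix.mulVec_single_one] at hs
    have e1 := congrFun hs i
    have e2 := congrFun hs (Sum.inl o)
    simp [Matrix.col, hG, hi, Ne.symm hi] at e1 e2
    rw [e1, e2]
  have ht0 : t (Sum.inl o) ≠ 0 := fun h0 => g.1.det.ne_zero (by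
    rw [Matrix.GeneralLinearGroup.val_det_apply]
    exact Matrix.det_eq_zero_of_row_eq_zero (Sum.inl o) fun i => by
      rw [hG]; split_ifs with hh
      · rw [hconst, h0]
      · rfl)
  have hg : conjSp g = 1 := by
    refine (conjSp_eq_one_iff hm).2 ⟨Units.mk0 _ ht0, Units.ext ?_⟩
    ext r i
    rw [hG]
    by_cases hri : r = i
    · subst hri; simp [hconst r]
    · simp [hri]
  rw [semiAut, hg, one_mul] at hy ⊢
  -- the field part fixes the fixed field
  have hτ : ∀ c, σ c = c → τ c = c := by
    intro c hc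
    by_cases hc0 : c = 0
    · simp [hc0]
    have h := hy (Pi.single (Sum.inl o) 1) c (hfix1 _).1 hc0 (hfix1 _).2 hc
    change toPSpAut _ (QuotientGroup.mk (spTransv _ c)) = _ at h
    rw [toPSpAut_mk, fieldSp_spTransv, hsingle] at h
    have h1 := congrArg (fun B : SP => B.1 *ᵥ (Pi.single (Sum.inr o) 1 : V)) (eq_of_mkT_eq p hm1 h)
    simp only [spTransv_mulVec, sympForm_single_inl] at h1
    simpa using congrFun h1 (Sum.inl o)
  haveI : Finite (F ≃+* F) := Finite.of_injective (fun e : F ≃+* F => (e : F → F)) DFunLike.coe_injective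
  let H : Subgroup (F ≃+* F) :=
    { carrier := {e | ∀ c, σ c = c → e c = c}
      one_mem' := fun c _ => rfl
      mul_mem' := fun {a b} ha hb c hc => by change a (b c) = c; rw [hb c hc, ha c hc]
      inv_mem' := fun {a} ha c hc => (a.symm_apply_eq).2 (ha c hc).symm }
  haveI := CfsgLib.AutPSL.isCyclic_ringEquiv (F := F)
  obtain ⟨⟨τ₀, hτ₀⟩, hgen⟩ := IsCyclic.exists_generator (α := H)
  have hH : H = Subgroup.zpowers τ₀ := by
    refine le_antisymm (fun e he => ?_) (Subgroup.zpowers_le.2 hτ₀)
    obtain ⟨k, hk⟩ := hgen ⟨e, he⟩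
    exact ⟨k, congrArg Subtype.val hk⟩
  have hσH : σ ∈ H := fun c hc => hc
  have hfixeq : CfsgLib.FixedField.fixedSub τ₀ = CfsgLib.FixedField.fixedSub σ := by
    ext c
    refine ⟨fun hc => ?_, fun hc => hτ₀ c hc⟩
    rw [hH] at hσH
    have hs : τ₀ ∈ MulAction.stabilizer (F ≃+* F) c := hc
    exact (Subgroup.zpowers_le.2 hs) hσH
  have hcard := (CfsgLib.FixedField.card_pow τ₀ rfl).symm.trans (CfsgLib.FixedField.card_pow σ rfl)
  rw [hfixeq] at hcard
  have hq : 1 < Nat.card (CfsgLib.FixedField.fixedSub σ) := Finite.one_lt_card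
  have hord : orderOf τ₀ = orderOf σ := Nat.pow_right_injective hq hcard
  have hle : Subgroup.zpowers σ ≤ H := Subgroup.zpowers_le.2 hσH
  have heq : Subgroup.zpowers σ = H := Subgroup.eq_of_le_of_card_ge hle
    (by rw [hH, Nat.card_zpowers, Nat.card_zpowers, hord])
  have hmem : τ ∈ Subgroup.zpowers σ := heq ▸ hτ
  obtain ⟨k, rfl⟩ := hmem
  exact ⟨k, by simp only [map_zpow]⟩

/-- Symplectic groups have no normal `p'`-subgroups outside the centre, `p` a divisor of the order
different from the characteristic. -/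
theorem normal_le_center_of_coprime (hm : 2 ≤ m) {p : ℕ} [Fact p.Prime] (hpF : (p : F) ≠ 0)
    (hp : p ∣ Nat.card (Cfsg.PSp m F)) (N : Subgroup SP) [N.Normal]
    (hN : (Nat.card (N.map (QuotientGroup.mk' (Subgroup.center SP)))).Coprime p) : N ≤ Subgroup.center SP := by
  classical
  have hm1 : 1 ≤ m := by omega
  have hpp : p.Prime := Fact.out
  obtain ⟨r, hr⟩ := CharP.exists F
  have : Fact r.Prime := ⟨CharP.char_is_prime F r⟩
  have hnot : ¬ p ∣ Nat.card (N.map (QuotientGroup.mk' (Subgroup.center SP))) :=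
    (hpp.coprime_iff_not_dvd).1 hN.symm
  by_contra hne
  have hperf : (3 ≤ m ∨ (2 ≤ m ∧ (2 : F) ≠ 0) ∨ ∃ t : F, t ≠ 0 ∧ t ^ 2 ≠ 1) → False := by
    intro h
    rcases normal_eq_top_or_le_center hm1 (commutator_Sp_eq_top h) N with h' | h'
    · subst h'
      rw [Subgroup.map_top_of_surjective _ (QuotientGroup.mk'_surjective _), Subgroup.card_top] at hnot
      exact hnot hp
    · exact hne h'
  -- the remaining case is `Sp_4(2)`
  have hm2 : m = 2 := by
    by_contra h
    exact hperf (Or.inl (by omega))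
  subst hm2
  have h2 : (2 : F) = 0 := by_contra fun h => hperf (Or.inr (Or.inl ⟨le_rfl, h⟩))
  haveI : CharP F 2 := CharTwo.of_one_ne_zero_of_two_eq_zero one_ne_zero h2
  have hcard : Fintype.card F = 2 := by
    by_contra h
    have h3 : ({0, 1} : Finset F).card < (Finset.univ : Finset F).card := by
      rw [Finset.card_univ, Finset.card_pair zero_ne_one]
      have := Fintype.one_lt_card (α := F)
      omega
    obtain ⟨t, -, ht⟩ := Finset.exists_mem_notMem_of_card_lt_card h3
    simp only [Finset.mem_insert, Finset.mem_singleton, not_or] at ht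
    exact hperf (Or.inr (Or.inr ⟨t, ht.1, fun h => ht.2 (CharTwo.sq_injective (by simpa using h))⟩))
  have hp2 : p ≠ 2 := by
    rintro rfl
    exact hpF (by exact_mod_cast h2)
  have := sp_isPreprimitive (F := F) (m := 2) one_le_two
  have hfix : MulAction.fixedPoints N (ℙ F (Fin 2 ⊕ Fin 2 → F)) ≠ .univ := by
    intro h
    refine hne fun A hA => mem_center_iff.2 (exists_scalar_of_smul_eq A fun w hw => ?_)
    have h' := Set.eq_univ_iff_forall.1 h (Projectivization.mk F w hw) ⟨A, hA⟩
    change A • Projectivization.mk F w hw = _ at h'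
    rw [sp_smul_mk A hw (mulVec_ne_zero A hw), Projectivization.mk_eq_mk_iff'] at h'
    obtain ⟨t, ht⟩ := h'
    exact ⟨t, ht.symm⟩
  have := MulAction.IsQuasiPreprimitive.isPretransitive_of_normal (N := N) hfix
  have hcardPSp : Nat.card (Cfsg.PSp 2 F) = 720 := by
    rw [← Nat.card_congr (mkEquiv (F := F) (m := 2) one_le_two).toEquiv, card_symplecticGroup, hcard]
    decide
  rw [hcardPSp] at hp
  have hp15 : p ∣ 15 := by
    rcases (Nat.Prime.dvd_mul hpp).1 (show p ∣ 2 ^ 4 * 45 by norm_num; exact hp) with h | h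
    · exact absurd ((Nat.prime_dvd_prime_iff_eq hpp Nat.prime_two).1 (hpp.dvd_of_dvd_pow h)) hp2
    · rcases (Nat.Prime.dvd_mul hpp).1 (show p ∣ 3 * 15 by norm_num; exact h) with h' | h'
      · exact h'.trans (by norm_num)
      · exact h'
  have hN15 : 15 ∣ Nat.card N := by
    let x : ℙ F (Fin 2 ⊕ Fin 2 → F) := Projectivization.mk F (Pi.single (Sum.inl 0) 1) (by simp)
    have h1 := MulAction.index_stabilizer_of_transitive N x
    rw [Projectivization.card_of_finrank F (Fin 2 ⊕ Fin 2 → F) (n := 4) (by simp),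
      Nat.card_eq_fintype_card, hcard] at h1
    have h3 := (MulAction.stabilizer N x).index_dvd_card
    rw [h1] at h3
    simpa [Finset.sum_range_succ] using h3
  refine hnot (hp15.trans (hN15.trans (dvd_of_eq ?_)))
  exact (Subgroup.card_map_of_injective (f := QuotientGroup.mk' (Subgroup.center (Matrix.symplecticGroup (Fin 2) F)))
    (mkEquiv (F := F) (m := 2) one_le_two).injective).symm

/-- Local balance at a standard field automorphism. -/
theorem core_field_iff (hm : 2 ≤ m) (A : Subgroup (MulAut (Cfsg.PSp m F)))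
    (hinn : ∀ k : Cfsg.PSp m F, MulAut.conj k ∈ A) {p : ℕ} [Fact p.Prime] (hpF : (p : F) ≠ 0)
    {σ : F ≃+* F} (hσ : orderOf σ = p) :
    Cfsg.pPrimeCore p ↥(A ⊓ Subgroup.centralizer {toPSpAut (fieldSp (m := m) σ)}) ≠ ⊥ ↔
      Nat.Coprime p (Nat.card ↥(MonoidHom.eqLocus (toPSpAut (fieldSp (m := m) σ)).toMonoidHom
        (MonoidHom.id (Cfsg.PSp m F)))) := by
  classical
  obtain ⟨r, hr⟩ := CharP.exists F
  have : Fact r.Prime := ⟨CharP.char_is_prime F r⟩
  have hm1 : 1 ≤ m := by omega
  have hpp : p.Prime := Fact.out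
  haveI := finite_mulAut (F := F) (m := m)
  set φ := toPSpAut (fieldSp (m := m) σ) with hφ
  set C := A ⊓ Subgroup.centralizer {φ} with hC
  set E := MonoidHom.eqLocus φ.toMonoidHom (MonoidHom.id (Cfsg.PSp m F)) with hE
  have hcc : ∀ k, φ k = k ↔ MulAut.conj k ∈ Subgroup.centralizer {φ} := by
    intro k
    rw [Subgroup.mem_centralizer_singleton_iff]
    constructor
    · intro h; ext1 x; simp [h]
    · intro h
      apply conj_injective (F := F) r hm1
      have h2 : MulAut.conj (φ k) = φ * MulAut.conj k * φ⁻¹ := by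
        ext1 x; simp [MulAut.mul_apply, MulAut.inv_def]
      rw [h2, ← h, mul_inv_cancel_right]
  let ι : ↥E →* ↥C := ((MulAut.conj).comp E.subtype).codRestrict _ fun k => ⟨hinn _, (hcc _).1 k.2⟩
  have hι : Function.Injective ι := fun a b h =>
    Subtype.ext (conj_injective (F := F) r hm1 (congrArg Subtype.val h))
  have hcardL : Nat.card ι.range = Nat.card E :=
    (Nat.card_congr (MonoidHom.ofInjective hι).toEquiv).symm
  have hLn : ι.range.Normal := by
    constructor
    rintro _ ⟨k, rfl⟩ g
    have hg := Subgroup.mem_centralizer_singleton_iff.1 g.2.2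
    refine ⟨⟨g.1 k.1, ?_⟩, Subtype.ext ?_⟩
    · change φ (g.1 k.1) = g.1 k.1
      rw [← MulAut.mul_apply, ← hg, MulAut.mul_apply]
      exact congrArg g.1 k.2
    · change MulAut.conj (g.1 k.1) = g.1 * MulAut.conj k.1 * g.1⁻¹
      ext1 x
      simp [MulAut.mul_apply, MulAut.inv_def]
  haveI := hLn
  let K := CfsgLib.FixedField.fixedSub σ
  haveI : Fintype K := Fintype.ofFinite K
  have hfixB : ∀ B : Matrix.symplecticGroup (Fin m) K, fieldSp σ (spMap K.subtype B) = spMap K.subtype B :=
    fun B => Subtype.ext (Matrix.ext fun i j => (B.1 i j).2)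
  let θ : Matrix.symplecticGroup (Fin m) K →* ↥E :=
    ((QuotientGroup.mk' (Subgroup.center SP)).comp (spMap K.subtype)).codRestrict _ fun B => by
      change toPSpAut _ (QuotientGroup.mk _) = QuotientGroup.mk _
      rw [toPSpAut_mk, hfixB]
  have hlift : ∀ D : SP, (∀ i j, σ (D.1 i j) = D.1 i j) → ∃ B, spMap K.subtype B = D := by
    intro D hD
    refine ⟨⟨Matrix.of fun i j => ⟨D.1 i j, hD i j⟩, ?_⟩, Subtype.ext rfl⟩
    refine SymplecticGroup.mem_iff.2 (Matrix.map_injective K.subtype.injective ?_)
    simp only [Matrix.map_mul, Matrix.transpose_map, J_map_hom]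
    exact SymplecticGroup.mem_iff.1 D.2
  have hθker : ∀ B, B ∈ Subgroup.center (Matrix.symplecticGroup (Fin m) K) → θ B = 1 := by
    intro B hB
    obtain ⟨s, hs⟩ := mem_center_iff.1 hB
    refine Subtype.ext ((QuotientGroup.eq_one_iff _).2 (mem_center_of_scalar (r := (s : F)) ?_))
    rw [spMap_val, hs]
    ext i j
    by_cases h : i = j <;> simp [Matrix.one_apply, h]
  have hne : θ.range ≠ ⊥ := by
    intro h
    let e0 : Fin m ⊕ Fin m → K := Pi.single (Sum.inl ⟨0, hm1⟩) 1
    have h1 : θ (spTransv e0 1) ∈ θ.range := ⟨_, rfl⟩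
    rw [h, Subgroup.mem_bot] at h1
    have h2 : mkT (K.subtype ∘ e0) (1 : F) = mkT (K.subtype ∘ e0) 0 := by
      have h3 : (QuotientGroup.mk (spMap K.subtype (spTransv e0 1)) : Cfsg.PSp m F) = 1 := congrArg Subtype.val h1
      rw [spMap_spTransv, map_one] at h3
      rw [mkT, h3, mkT, show spTransv (K.subtype ∘ e0) (0 : F) = (1 : SP) from
        sp_ext fun x => by simp [spTransv_mulVec], QuotientGroup.mk_one]
    refine spTransv_ne_one (F := F) (w := K.subtype ∘ e0) ?_ one_ne_zero
      ((eq_of_mkT_eq r hm1 h2).trans (sp_ext fun x => by simp [spTransv_mulVec]))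
    intro h0
    have := congrFun h0 (Sum.inl ⟨0, hm1⟩)
    simp [e0] at this
  have hEne : ι.range ≠ ⊥ := by
    intro h
    apply hne
    rw [eq_bot_iff]
    rintro x -
    have h1 : ι x ∈ ι.range := ⟨x, rfl⟩
    rw [h, Subgroup.mem_bot, ← map_one ι] at h1
    exact Subgroup.mem_bot.2 (hι h1)
  constructor
  · intro hcore
    by_contra hcop
    apply hcore
    have hpdvd : p ∣ Nat.card E := by
      by_contra h
      exact hcop ((hpp.coprime_iff_not_dvd).2 h)
    refine CfsgLib.AutPSL.core_eq_bot ι.range (θ.range.map ι) (Subgroup.map_le_range _ _) ?_ ?_ ?_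
    · rintro _ ⟨l, rfl⟩ _ ⟨_, ⟨B, rfl⟩, rfl⟩
      obtain ⟨k, hk⟩ := l
      obtain ⟨D, rfl⟩ := QuotientGroup.mk_surjective k
      obtain ⟨z, hz, hzD⟩ : ∃ z ∈ Subgroup.center SP, fieldSp σ D = D * z :=
        ⟨D⁻¹ * fieldSp σ D, QuotientGroup.eq.1 (hk : QuotientGroup.mk (fieldSp σ D) = _).symm, by group⟩
      obtain ⟨B', hB'⟩ := hlift (D * spMap K.subtype B * D⁻¹) fun i j => by
        have h : fieldSp σ (D * spMap K.subtype B * D⁻¹) = D * spMap K.subtype B * D⁻¹ := by
          rw [map_mul, map_mul, map_inv, hfixB, hzD, _root_.mul_inv_rev, mul_assoc D z,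
            ← Subgroup.mem_center_iff.1 hz (spMap K.subtype B)]
          group
        exact congrFun (congrFun (congrArg Subtype.val h) i) j
      refine ⟨θ B', ⟨B', rfl⟩, ?_⟩
      rw [← map_inv, ← map_mul, ← map_mul]
      congr 1
      apply Subtype.ext
      change (QuotientGroup.mk (spMap K.subtype B') : Cfsg.PSp m F) = _
      rw [hB']
      rfl
    · intro N hNle hNn hNc
      have hpθ : p ∣ Nat.card θ.range := by
        by_cases hp2 : p = 2
        · subst hp2
          have h2K : (2 : K) ≠ 0 := fun h => hpF (by exact_mod_cast congrArg K.subtype h)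
          let d : Fin m ⊕ Fin m → K := fun i =>
            if i = Sum.inl ⟨0, hm1⟩ ∨ i = Sum.inr ⟨0, hm1⟩ then -1 else 1
          have hd : Matrix.diagonal d ∈ Matrix.symplecticGroup (Fin m) K := by
            rw [mem_symplecticGroup_iff_form]
            intro u v
            simp only [sympForm_eq_sum, Matrix.mulVec_diagonal]
            refine Finset.sum_congr rfl fun i _ => ?_
            by_cases h : i = ⟨0, hm1⟩ <;> simp [d, h]
          set D : Matrix.symplecticGroup (Fin m) K := ⟨_, hd⟩
          have hD2 : θ D ^ 2 = 1 := by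
            rw [← map_pow]
            convert map_one θ
            apply Subtype.ext
            change (Matrix.diagonal d) ^ 2 = 1
            rw [Matrix.diagonal_pow, ← Matrix.diagonal_one]
            congr 1
            funext i
            by_cases h : i = Sum.inl ⟨0, hm1⟩ ∨ i = Sum.inr ⟨0, hm1⟩ <;> simp [d, h]
          have hD1 : θ D ≠ 1 := by
            intro h
            have h' : (QuotientGroup.mk (spMap K.subtype D) : Cfsg.PSp m F) = 1 := congrArg Subtype.val h
            obtain ⟨s, hs⟩ := mem_center_iff.1 ((QuotientGroup.eq_one_iff _).1 h')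
            have e1 := congrFun (congrFun hs (Sum.inl ⟨0, hm1⟩)) (Sum.inl ⟨0, hm1⟩)
            have e2 := congrFun (congrFun hs (Sum.inl ⟨1, by omega⟩)) (Sum.inl ⟨1, by omega⟩)
            simp [spMap_val, D, d] at e1 e2
            rw [← e1] at e2
            exact hpF (by push_cast; linear_combination e2)
          rw [← orderOf_eq_prime hD2 hD1]
          exact Subgroup.orderOf_dvd_natCard _ ⟨D, rfl⟩
        · obtain ⟨k, hk⟩ := exists_prime_orderOf_dvd_card' p hpdvd
          obtain ⟨D, hD⟩ := QuotientGroup.mk_surjective k.1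
          obtain ⟨z, hz, hzD⟩ : ∃ z ∈ Subgroup.center SP, fieldSp σ D = D * z := by
            have hk' : φ k.1 = k.1 := k.2
            rw [← hD] at hk'
            exact ⟨D⁻¹ * fieldSp σ D, QuotientGroup.eq.1 (hk' : QuotientGroup.mk (fieldSp σ D) = _).symm, by group⟩
          have hz2 : z ^ 2 = 1 := by
            obtain ⟨s, hs⟩ := mem_center_iff.1 hz
            apply Subtype.ext
            rw [SubmonoidClass.coe_pow, hs, smul_pow, one_pow, sq_eq_one_of_scalar hm1 hs, one_smul]
            rfl
          obtain ⟨B, hB⟩ := hlift (D ^ 2) fun i j => by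
            have h : fieldSp σ (D ^ 2) = D ^ 2 := by
              have hcm : Commute D z := Subgroup.mem_center_iff.1 hz D
              rw [map_pow, hzD, hcm.mul_pow, hz2, mul_one]
            exact congrFun (congrFun (congrArg Subtype.val h) i) j
          have hk2 : θ B = k ^ 2 := by
            apply Subtype.ext
            change (QuotientGroup.mk (spMap K.subtype B) : Cfsg.PSp m F) = k.1 ^ 2
            rw [hB, QuotientGroup.mk_pow, hD]
          have ho : orderOf (k ^ 2) = p := by
            rw [orderOf_pow' k two_ne_zero, hk, Nat.Coprime.gcd_eq_one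
              ((Nat.coprime_primes hpp Nat.prime_two).2 hp2), Nat.div_one]
          rw [← ho]
          exact Subgroup.orderOf_dvd_natCard _ ⟨B, hk2⟩
      set θ' := ι.comp θ with hθ'
      have hr' : θ'.range = θ.range.map ι := by rw [hθ', MonoidHom.range_comp]
      haveI : (N.comap θ').Normal := by
        constructor
        intro b hb g
        rw [Subgroup.mem_comap, map_mul, map_mul, map_inv]
        exact hNn _ (hr' ▸ ⟨g, rfl⟩) _ hb
      have hmap : (N.comap θ').map θ' = N :=
        Subgroup.map_comap_eq_self (hNle.trans hr'.ge)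
      -- both quotients of `Sp(K)` by its centre have the same image
      have hk1 : Subgroup.center (Matrix.symplecticGroup (Fin m) K) = θ'.ker := by
        refine le_antisymm (fun B hB => ?_) fun B hB => ?_
        · rw [MonoidHom.mem_ker, hθ', MonoidHom.comp_apply, hθker B hB, map_one]
        · rw [MonoidHom.mem_ker, hθ', MonoidHom.comp_apply, ← map_one ι] at hB
          have h' : (QuotientGroup.mk (spMap K.subtype B) : Cfsg.PSp m F) = 1 := congrArg Subtype.val (hι hB)
          rw [Subgroup.mem_center_iff]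
          intro B'
          apply spMap_injective K.subtype
          rw [map_mul, map_mul]
          exact Subgroup.mem_center_iff.1 ((QuotientGroup.eq_one_iff _).1 h') _
      let e : Cfsg.PSp m K ≃* θ'.range :=
        (QuotientGroup.quotientMulEquivOfEq hk1).trans (QuotientGroup.quotientKerEquivRange θ')
      have hpK : p ∣ Nat.card (Cfsg.PSp m K) := by
        rw [Nat.card_congr e.toEquiv, hr', Subgroup.card_map_of_injective hι]
        exact hpθ
      have hcard : Nat.card ((N.comap θ').map (QuotientGroup.mk' (Subgroup.center _))) = Nat.card N := by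
        generalize hM : N.comap θ' = M at hmap ⊢
        conv_rhs => rw [← hmap]
        have hcomp : θ' = ((θ'.range.subtype).comp e.toMonoidHom).comp (QuotientGroup.mk' _) :=
          MonoidHom.ext fun B => rfl
        conv_rhs => rw [hcomp, ← Subgroup.map_map]
        exact (Subgroup.card_map_of_injective (f := (θ'.range.subtype).comp e.toMonoidHom)
          ((Subgroup.subtype_injective θ'.range).comp e.injective)).symm
      have hle := normal_le_center_of_coprime hm (fun h => hpF (by
        have := congrArg K.subtype h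
        simpa using this)) hpK (N.comap θ') (by rw [hcard]; exact hNc)
      rw [← hmap, Subgroup.map_eq_bot_iff, ← hk1]
      exact hle
    · intro g hg
      have hmem := eq_field_of_fix hm g.1 (σ := σ) fun w c hw hc hwf hcf => by
        let w₀ : Fin m ⊕ Fin m → K := fun i => ⟨w i, hwf i⟩
        let B := spTransv w₀ (⟨c, hcf⟩ : K)
        have hB : (θ B).1 = mkT w c := by
          change (QuotientGroup.mk (spMap K.subtype B) : Cfsg.PSp m F) = _
          rw [spMap_spTransv]; rfl
        have h := congrArg Subtype.val (hg _ (Subgroup.mem_map_of_mem ι ⟨B, rfl⟩))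
        change g.1 * MulAut.conj (θ B).1 = MulAut.conj (θ B).1 * g.1 at h
        apply conj_injective (F := F) r hm1
        have h2 : MulAut.conj (g.1 (mkT w c)) = g.1 * MulAut.conj (mkT w c) * g.1⁻¹ := by
          ext1 x; simp [MulAut.mul_apply, MulAut.inv_def]
        rw [h2, ← hB, h, mul_inv_cancel_right]
      obtain ⟨k, hk⟩ := hmem
      refine ⟨1, Subtype.ext ?_⟩
      change g.1 ^ p ^ 1 = 1
      rw [pow_one, ← hk, ← zpow_natCast, ← _root_.zpow_mul, mul_comm, _root_.zpow_mul, zpow_natCast, ← hσ]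
      have hσ1 : φ ^ orderOf σ = 1 := by rw [hφ, ← map_pow, ← map_pow, pow_orderOf_eq_one, map_one, map_one]
      rw [hσ1, _root_.one_zpow]
  · intro hcop
    exact CfsgLib.AutPSL.core_ne_bot hLn hEne (by rw [hcardL]; exact hcop.symm)

end CfsgLib.AutPSp
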