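import Cfsg.Prelude.Def_LieTypeDatum
import Cfsg.Agent.Forms4.SymplecticSimple

/-!
# Automorphisms of `Sp_2m` and `PSp_2m` from similitudes and field automorphisms
-/

set_option autoImplicit false

namespace CfsgLib.AutPSp

open Matrix CfsgLib.Forms CfsgLib.Forms4

variable {F : Type*} [Field F] {m : ℕ}

local notation "V" => Fin m ⊕ Fin m → F
local notation "SP" => Matrix.symplecticGroup (Fin m) F

theorem sympForm_map_field (σ : F ≃+* F) (u v : V) :
    Cfsg.sympForm m F (σ ∘ u) (σ ∘ v) = σ (Cfsg.sympForm m F u v) := by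
  simp [sympForm_eq_sum]

theorem map_mulVec_field (σ : F ≃+* F) (A : Matrix (Fin m ⊕ Fin m) (Fin m ⊕ Fin m) F) (u : V) :
    A.map σ *ᵥ (σ ∘ u) = σ ∘ (A *ᵥ u) :=
  funext fun i => (RingHom.map_mulVec σ.toRingHom A u i).symm

theorem field_comp_symm (σ : F ≃+* F) (u : V) : σ ∘ (σ.symm ∘ u) = u := by
  funext i; simp

theorem map_mem_sp (σ : F ≃+* F) {A : Matrix (Fin m ⊕ Fin m) (Fin m ⊕ Fin m) F}
    (hA : A ∈ Matrix.symplecticGroup (Fin m) F) : A.map σ ∈ Matrix.symplecticGroup (Fin m) F := by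
  rw [mem_symplecticGroup_iff_form] at hA ⊢
  intro u v
  rw [← field_comp_symm σ u, ← field_comp_symm σ v, map_mulVec_field, map_mulVec_field,
    sympForm_map_field, sympForm_map_field, hA]

/-- A field automorphism applied entrywise, on `Sp`. -/
def fieldSp : (F ≃+* F) →* MulAut SP where
  toFun σ :=
    { toFun := fun s => ⟨s.1.map σ, map_mem_sp σ s.2⟩
      invFun := fun s => ⟨s.1.map σ.symm, map_mem_sp σ.symm s.2⟩
      left_inv := fun s => by apply Subtype.ext; ext i j; simp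
      right_inv := fun s => by apply Subtype.ext; ext i j; simp
      map_mul' := fun s t => Subtype.ext (σ.toRingHom.mapMatrix.map_mul s.1 t.1) }
  map_one' := by ext1 s; apply Subtype.ext; ext i j; rfl
  map_mul' σ τ := by ext1 s; apply Subtype.ext; ext i j; rfl

@[simp] theorem fieldSp_coe (σ : F ≃+* F) (s : SP) : (fieldSp σ s).1 = s.1.map σ := rfl

theorem mem_GSp_iff {g : GL (Fin m ⊕ Fin m) F} : g ∈ Cfsg.GSp m F ↔ ∃ c : Fˣ, ∀ u v,
    Cfsg.sympForm m F (g.1 *ᵥ u) (g.1 *ᵥ v) = (c : F) * Cfsg.sympForm m F u v := Iff.rfl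

theorem conj_mem_sp {g : GL (Fin m ⊕ Fin m) F} (hg : g ∈ Cfsg.GSp m F)
    {A : Matrix (Fin m ⊕ Fin m) (Fin m ⊕ Fin m) F} (hA : A ∈ Matrix.symplecticGroup (Fin m) F) :
    g.1 * A * (g⁻¹ : GL (Fin m ⊕ Fin m) F).1 ∈ Matrix.symplecticGroup (Fin m) F := by
  obtain ⟨c, hc⟩ := mem_GSp_iff.1 hg
  rw [mem_symplecticGroup_iff_form] at hA ⊢
  intro u v
  have h : ∀ x : V, g.1 *ᵥ ((g⁻¹ : GL (Fin m ⊕ Fin m) F).1 *ᵥ x) = x := fun x => by
    rw [Matrix.mulVec_mulVec, g.mul_inv, Matrix.one_mulVec]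
  rw [← Matrix.mulVec_mulVec, ← Matrix.mulVec_mulVec, ← Matrix.mulVec_mulVec, ← Matrix.mulVec_mulVec,
    hc, hA, ← hc, h, h]

/-- Conjugation by a similitude on `Sp`. -/
def conjSp : ↥(Cfsg.GSp m F) →* MulAut SP where
  toFun g :=
    { toFun := fun s => ⟨_, conj_mem_sp g.2 s.2⟩
      invFun := fun s => ⟨_, conj_mem_sp (g⁻¹).2 s.2⟩
      left_inv := fun s => by apply Subtype.ext; simp [mul_assoc]
      right_inv := fun s => by apply Subtype.ext; simp [mul_assoc]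
      map_mul' := fun s t => by apply Subtype.ext; simp [mul_assoc] }
  map_one' := by ext1 s; apply Subtype.ext; simp
  map_mul' g h := by ext1 s; apply Subtype.ext; simp [mul_assoc]

@[simp] theorem conjSp_coe (g : ↥(Cfsg.GSp m F)) (s : SP) :
    (conjSp g s).1 = g.1.1 * s.1 * (g.1⁻¹ : GL (Fin m ⊕ Fin m) F).1 := rfl

/-- The automorphism of `PSp` induced by one of `Sp`. -/
def toPSpAut : MulAut SP →* MulAut (Cfsg.PSp m F) where
  toFun α := QuotientGroup.congr _ _ α (Subgroup.characteristic_iff_map_eq.1 inferInstance α)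
  map_one' := by
    ext1 x
    induction x using QuotientGroup.induction_on
    rfl
  map_mul' α β := by
    ext1 x
    induction x using QuotientGroup.induction_on
    rfl

@[simp] theorem toPSpAut_mk (α : MulAut SP) (s : SP) :
    toPSpAut α (QuotientGroup.mk s) = QuotientGroup.mk (α s) := rfl

theorem toPSpAut_conj (h : SP) :
    toPSpAut (MulAut.conj h) = MulAut.conj (QuotientGroup.mk h : Cfsg.PSp m F) := by
  ext1 x
  induction x using QuotientGroup.induction_on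
  rfl

theorem eq_toPSpAut_iff (β : MulAut (Cfsg.PSp m F)) (α : MulAut SP) :
    (∀ s s' : SP, s'.1 = (α s).1 → β (QuotientGroup.mk s) = QuotientGroup.mk s') ↔ β = toPSpAut α := by
  constructor
  · intro h
    ext1 x
    induction x using QuotientGroup.induction_on with
    | H s => exact h s (α s) rfl
  · rintro rfl s s' hs
    rw [Subtype.ext hs, toPSpAut_mk]

/-- The automorphism induced by a similitude and a field automorphism. -/
def semiAut (g : ↥(Cfsg.GSp m F)) (σ : F ≃+* F) : MulAut (Cfsg.PSp m F) :=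
  toPSpAut (conjSp g * fieldSp σ)

theorem isInducedBySemilinearPSp_iff {g : GL (Fin m ⊕ Fin m) F} (hg : g ∈ Cfsg.GSp m F) (σ : F ≃+* F)
    (β : MulAut (Cfsg.PSp m F)) :
    Cfsg.IsInducedBySemilinearPSp g σ β ↔ β = semiAut ⟨g, hg⟩ σ := by
  rw [semiAut, ← eq_toPSpAut_iff]
  exact forall₂_congr fun s s' => Iff.rfl

theorem isStdFieldAutPSp_iff (σ : F ≃+* F) (β : MulAut (Cfsg.PSp m F)) :
    Cfsg.IsStdFieldAutPSp σ β ↔ β = toPSpAut (fieldSp σ) :=
  eq_toPSpAut_iff β (fieldSp σ)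

theorem isInnerDiagonalAutPSp_iff (β : MulAut (Cfsg.PSp m F)) :
    Cfsg.IsInnerDiagonalAutPSp β ↔ ∃ g : ↥(Cfsg.GSp m F), β = toPSpAut (conjSp g) := by
  have h1 : fieldSp (m := m) (RingEquiv.refl F) = 1 := map_one (fieldSp (F := F) (m := m))
  constructor
  · rintro ⟨g, hg, hβ⟩
    refine ⟨⟨g, hg⟩, ?_⟩
    rw [(isInducedBySemilinearPSp_iff hg _ β).1 hβ, semiAut, h1, mul_one]
  · rintro ⟨g, rfl⟩
    refine ⟨g.1, g.2, (isInducedBySemilinearPSp_iff g.2 _ _).2 ?_⟩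
    rw [semiAut, h1, mul_one]

/-- `g ↦` the inner-diagonal automorphism it induces. -/
def innDiagHom : ↥(Cfsg.GSp m F) →* MulAut (Cfsg.PSp m F) := toPSpAut.comp conjSp

theorem inndiagPSp_eq : Cfsg.inndiagPSp m F = (innDiagHom (F := F) (m := m)).range := by
  refine le_antisymm ((Subgroup.closure_le _).2 fun β hβ => ?_) ?_
  · obtain ⟨g, rfl⟩ := (isInnerDiagonalAutPSp_iff β).1 hβ
    exact ⟨g, rfl⟩
  · rintro β ⟨g, rfl⟩
    exact Subgroup.subset_closure ((isInnerDiagonalAutPSp_iff _).2 ⟨g, rfl⟩)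

theorem mem_inndiagPSp_iff {β : MulAut (Cfsg.PSp m F)} :
    β ∈ Cfsg.inndiagPSp m F ↔ ∃ g : ↥(Cfsg.GSp m F), β = toPSpAut (conjSp g) := by
  rw [inndiagPSp_eq]
  exact exists_congr fun g => eq_comm

/-- An element of `Sp` as a similitude. -/
def spToGSp : SP →* ↥(Cfsg.GSp m F) :=
  MonoidHom.codRestrict (MonoidHom.toHomUnits (Matrix.symplecticGroup (Fin m) F).subtype) _
    (fun A => mem_GSp_iff.2 ⟨1, fun u v => by
      rw [Units.val_one, one_mul]
      exact sympForm_map A u v⟩)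

theorem conjSp_spToGSp (h : SP) : conjSp (spToGSp h) = MulAut.conj h := by
  ext1 s
  exact Subtype.ext rfl

theorem inn_eq_range : Cfsg.Inn (Cfsg.PSp m F) = ((innDiagHom (F := F) (m := m)).comp spToGSp).range := by
  ext β
  constructor
  · rintro ⟨x, rfl⟩
    obtain ⟨s, rfl⟩ := QuotientGroup.mk_surjective x
    exact ⟨s, by rw [← toPSpAut_conj, ← conjSp_spToGSp]; rfl⟩
  · rintro ⟨s, rfl⟩
    exact ⟨QuotientGroup.mk s, by rw [← toPSpAut_conj, ← conjSp_spToGSp]; rfl⟩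

theorem fieldSp_mul_conjSp (σ : F ≃+* F) (g : ↥(Cfsg.GSp m F))
    (hg : Matrix.GeneralLinearGroup.map (σ : F →+* F) g.1 ∈ Cfsg.GSp m F) :
    fieldSp σ * conjSp g = conjSp ⟨_, hg⟩ * fieldSp σ := by
  ext1 s
  apply Subtype.ext
  change (g.1.1 * s.1 * (g.1⁻¹ : GL (Fin m ⊕ Fin m) F).1).map σ =
    (Matrix.GeneralLinearGroup.map (σ : F →+* F) g.1).1 * s.1.map σ *
      ((Matrix.GeneralLinearGroup.map (σ : F →+* F) g.1)⁻¹ : GL (Fin m ⊕ Fin m) F).1
  rw [← map_inv]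
  change σ.toRingHom.mapMatrix _ = σ.toRingHom.mapMatrix _ * σ.toRingHom.mapMatrix _ * σ.toRingHom.mapMatrix _
  rw [map_mul, map_mul]

theorem map_mem_GSp (σ : F ≃+* F) {g : GL (Fin m ⊕ Fin m) F} (hg : g ∈ Cfsg.GSp m F) :
    Matrix.GeneralLinearGroup.map (σ : F →+* F) g ∈ Cfsg.GSp m F := by
  obtain ⟨c, hc⟩ := mem_GSp_iff.1 hg
  refine mem_GSp_iff.2 ⟨Units.map (σ : F →* F) c, fun u v => ?_⟩
  change Cfsg.sympForm m F (g.1.map σ *ᵥ u) (g.1.map σ *ᵥ v) = σ c * _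
  rw [← field_comp_symm σ u, ← field_comp_symm σ v, map_mulVec_field, map_mulVec_field,
    sympForm_map_field, sympForm_map_field, hc, map_mul]

end CfsgLib.AutPSp
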