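import Cfsg.Agent.AutPSp.Similitude

/-!
# The exceptional endomorphism of `Sp_4` in characteristic two

`Sp_4` acts on the exterior square of the natural module; the section `ω^⊥/ω` is again a symplectic space
of dimension four.
-/

set_option autoImplicit false

namespace CfsgLib.AutPSp

open Matrix CfsgLib.Forms CfsgLib.Forms4

variable {F : Type*} [Field F]

local notation "ι₄" => Fin 2 ⊕ Fin 2
local notation "V₄" => Fin 2 ⊕ Fin 2 → F
local notation "SP₄" => Matrix.symplecticGroup (Fin 2) F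

/-- First member of the pair attached to a coordinate. -/
def fstIdx : ι₄ → ι₄ :=
  Sum.elim (fun _ => Sum.inl 0) (fun i => if i = 0 then Sum.inr 0 else Sum.inl 1)

/-- Second member of the pair attached to a coordinate. -/
def sndIdx : ι₄ → ι₄ :=
  Sum.elim (fun i => if i = 0 then Sum.inl 1 else Sum.inr 1)
    (fun i => if i = 0 then Sum.inr 1 else Sum.inr 0)

/-- A coordinate of `a ∧ b`. -/
def minor2 (a b : V₄) (r : ι₄) : F := a (fstIdx r) * b (sndIdx r) - a (sndIdx r) * b (fstIdx r)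

/-- The coordinate `13` of `a ∧ b`. -/
def midA (a b : V₄) : F := a (Sum.inl 0) * b (Sum.inr 0) - a (Sum.inr 0) * b (Sum.inl 0)

/-- The coordinate `24` of `a ∧ b`. -/
def midB (a b : V₄) : F := a (Sum.inl 1) * b (Sum.inr 1) - a (Sum.inr 1) * b (Sum.inl 1)

theorem sympForm_mid (a b : V₄) : Cfsg.sympForm 2 F a b = -(midA a b + midB a b) := by
  rw [sympForm_eq_sum, Fin.sum_univ_two, midA, midB]; ring

/-- The matrix of the induced map. -/
def extMat (g : Matrix ι₄ ι₄ F) : Matrix ι₄ ι₄ F :=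
  Matrix.of fun r c => minor2 (g.col (fstIdx c)) (g.col (sndIdx c)) r

theorem minor2_mulVec (g : Matrix ι₄ ι₄ F) (a b : V₄) (r : ι₄) :
    minor2 (g *ᵥ a) (g *ᵥ b) r = (extMat g *ᵥ minor2 a b) r +
      minor2 (g.col (Sum.inl 0)) (g.col (Sum.inr 0)) r * midA a b +
      minor2 (g.col (Sum.inl 1)) (g.col (Sum.inr 1)) r * midB a b := by
  simp [extMat, minor2, midA, midB, Matrix.mulVec, dotProduct, Matrix.col, Fintype.sum_sum_type,
    Fin.sum_univ_two, fstIdx, sndIdx]
  ring

theorem sympForm_single_single (i j : ι₄) :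
    Cfsg.sympForm 2 F (Pi.single i 1) (Pi.single j 1) = Matrix.J (Fin 2) F i j := by
  simp [Cfsg.sympForm, Matrix.mulVec_single_one]

theorem sympForm_col (g : SP₄) (i j : ι₄) :
    Cfsg.sympForm 2 F (g.1.col i) (g.1.col j) = Matrix.J (Fin 2) F i j := by
  rw [← Matrix.mulVec_single_one, ← Matrix.mulVec_single_one, sympForm_map, sympForm_single_single]

theorem J_pair (r : ι₄) : Matrix.J (Fin 2) F (fstIdx r) (sndIdx r) = 0 := by
  rcases r with r | r <;> fin_cases r <;> simp [fstIdx, sndIdx, Matrix.J]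

theorem midB_eq [CharP F 2] {a b : V₄} (h : Cfsg.sympForm 2 F a b = 0) : midB a b = midA a b := by
  rw [sympForm_mid, neg_eq_zero, add_eq_zero_iff_eq_neg, CharTwo.neg_eq] at h
  exact h.symm

theorem extMat_mul [CharP F 2] (g h : SP₄) : extMat (g * h).1 = extMat g.1 * extMat h.1 := by
  ext r c
  have hcol : ∀ j, (g * h).1.col j = g.1 *ᵥ h.1.col j := fun j => by
    ext i; simp [Matrix.col, Matrix.mul_apply, Matrix.mulVec, dotProduct]
  have hsum : minor2 (g.1.col (Sum.inl 0)) (g.1.col (Sum.inr 0)) r +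
      minor2 (g.1.col (Sum.inl 1)) (g.1.col (Sum.inr 1)) r = 0 := by
    have h1 := sympForm_col (⟨_, SymplecticGroup.transpose_mem g.2⟩ : SP₄) (fstIdx r) (sndIdx r)
    rw [J_pair, sympForm_mid, neg_eq_zero] at h1
    simp [midA, midB, Matrix.col, Matrix.transpose_apply] at h1
    simp [minor2, Matrix.col]
    linear_combination h1
  have hmid := midB_eq (by rw [sympForm_col h, J_pair] :
    Cfsg.sympForm 2 F (h.1.col (fstIdx c)) (h.1.col (sndIdx c)) = 0)
  change minor2 ((g * h).1.col (fstIdx c)) ((g * h).1.col (sndIdx c)) r = _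
  rw [hcol, hcol, minor2_mulVec, hmid, add_assoc, ← add_mul, hsum, zero_mul, add_zero]
  rfl

theorem pfaffian (a b c d : V₄) :
    Cfsg.sympForm 2 F a b * Cfsg.sympForm 2 F c d - Cfsg.sympForm 2 F a c * Cfsg.sympForm 2 F b d +
      Cfsg.sympForm 2 F a d * Cfsg.sympForm 2 F b c =
    -(minor2 a b (Sum.inl 0) * minor2 c d (Sum.inr 0) + minor2 a b (Sum.inr 0) * minor2 c d (Sum.inl 0) +
      minor2 a b (Sum.inl 1) * minor2 c d (Sum.inr 1) + minor2 a b (Sum.inr 1) * minor2 c d (Sum.inl 1) -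
      midA a b * midB c d - midB a b * midA c d) := by
  simp [sympForm_eq_sum, Fin.sum_univ_two, minor2, midA, midB, fstIdx, sndIdx]
  ring

theorem extMat_mem [CharP F 2] (g : SP₄) : extMat g.1 ∈ Matrix.symplecticGroup (Fin 2) F := by
  rw [SymplecticGroup.mem_iff']
  ext k l
  have hent : ((extMat g.1)ᵀ * Matrix.J (Fin 2) F * extMat g.1) k l =
      Cfsg.sympForm 2 F ((extMat g.1).col k) ((extMat g.1).col l) := by
    rw [← Matrix.mulVec_single_one, ← Matrix.mulVec_single_one, sympForm_mulVec_eq]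
    simp [Matrix.mulVec_single_one]
  rw [hent]
  have hk : Cfsg.sympForm 2 F (g.1.col (fstIdx k)) (g.1.col (sndIdx k)) = 0 := by rw [sympForm_col, J_pair]
  have hl : Cfsg.sympForm 2 F (g.1.col (fstIdx l)) (g.1.col (sndIdx l)) = 0 := by rw [sympForm_col, J_pair]
  have hp := pfaffian (g.1.col (fstIdx k)) (g.1.col (sndIdx k)) (g.1.col (fstIdx l)) (g.1.col (sndIdx l))
  rw [hk, hl, midB_eq hk, midB_eq hl] at hp
  simp only [sympForm_col, CharTwo.sub_eq_add, CharTwo.neg_eq] at hp
  rw [add_assoc _ (midA _ _ * midA _ _) (midA _ _ * midA _ _), CharTwo.add_self_eq_zero, add_zero] at hp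
  rw [sympForm_eq_sum, Fin.sum_univ_two]
  simp only [CharTwo.sub_eq_add]
  change minor2 _ _ (Sum.inr 0) * minor2 _ _ (Sum.inl 0) + minor2 _ _ (Sum.inl 0) * minor2 _ _ (Sum.inr 0) +
    (minor2 _ _ (Sum.inr 1) * minor2 _ _ (Sum.inl 1) + minor2 _ _ (Sum.inl 1) * minor2 _ _ (Sum.inr 1)) = _
  rw [show ∀ x y z w : F, x + y + (z + w) = y + x + w + z from fun x y z w => by ring, ← hp]
  rcases k with k | k <;> rcases l with l | l <;> fin_cases k <;> fin_cases l <;>
    simp [fstIdx, sndIdx, Matrix.J, CharTwo.neg_eq]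

/-- The exceptional endomorphism. -/
def extHom [CharP F 2] : SP₄ →* SP₄ where
  toFun g := ⟨extMat g.1, extMat_mem g⟩
  map_one' := by
    apply Subtype.ext
    ext r c
    rcases r with r | r <;> rcases c with c | c <;> fin_cases r <;> fin_cases c <;>
      simp [extMat, minor2, fstIdx, sndIdx, Matrix.col, Matrix.one_apply]
  map_mul' g h := Subtype.ext (extMat_mul g h)

theorem extHom_not_transv [CharP F 2] (v : V₄) (d : F) :
    extHom (spTransv (Pi.single (Sum.inl 0) (1 : F)) 1 : SP₄) ≠ spTransv v d := by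
  intro h
  have e1 : ∀ j, (extHom (spTransv (Pi.single (Sum.inl 0) (1 : F)) 1 : SP₄)).1.col j =
      Pi.single j 1 + (d * Cfsg.sympForm 2 F (Pi.single j 1) v) • v := fun j => by
    rw [h, ← Matrix.mulVec_single_one, spTransv_mulVec]
  have hT : ∀ i j, (spTransv (Pi.single (Sum.inl 0) (1 : F)) 1 : SP₄).1 i j =
      (Pi.single j (1 : F) : V₄) i + (Pi.single j (1 : F) : V₄) (Sum.inr 0) * (Pi.single (Sum.inl 0) (1 : F) : V₄) i := by
    intro i j
    have h2 := congrFun (spTransv_mulVec (Pi.single (Sum.inl 0) (1 : F)) (Pi.single j 1 : V₄) 1) i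
    rw [Matrix.mulVec_single_one, sympForm_single_inl, one_mul] at h2
    simpa [Matrix.col] using h2
  have a1 := congrFun (e1 (Sum.inr 0)) (Sum.inl 1)
  have b1 := congrFun (e1 (Sum.inr 0)) (Sum.inl 0)
  have b2 := congrFun (e1 (Sum.inr 1)) (Sum.inl 0)
  have hE : ∀ i j, extMat (spTransv (Pi.single (Sum.inl 0) (1 : F)) 1 : SP₄).1 i j =
      minor2 (fun k => (Pi.single (fstIdx j) (1 : F) : V₄) k + (Pi.single (fstIdx j) (1 : F) : V₄) (Sum.inr 0) * (Pi.single (Sum.inl 0) (1 : F) : V₄) k)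
        (fun k => (Pi.single (sndIdx j) (1 : F) : V₄) k + (Pi.single (sndIdx j) (1 : F) : V₄) (Sum.inr 0) * (Pi.single (Sum.inl 0) (1 : F) : V₄) k) i := by
    intro i j
    simp only [extMat, Matrix.of_apply, minor2, Matrix.col, Matrix.transpose_apply, hT]
  change extMat _ (Sum.inl 1) (Sum.inr 0) = _ at a1
  change extMat _ (Sum.inl 0) (Sum.inr 0) = _ at b1
  change extMat _ (Sum.inl 0) (Sum.inr 1) = _ at b2
  rw [hE] at a1 b1 b2
  simp [minor2, fstIdx, sndIdx] at a1 b1 b2
  rcases b1 with (hd | hf) | hv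
  · simp [hd] at b2
  · simp [hf] at a1
  · simp [hv] at b2

theorem extHom_injective [Fintype F] [CharP F 2] (hq : 3 ≤ Fintype.card F) :
    Function.Injective (extHom (F := F)) := by
  classical
  obtain ⟨t, ht⟩ : ∃ t : F, t ∉ ({0, 1} : Finset F) := by
    by_contra hne
    push Not at hne
    have h2 : (Finset.univ : Finset F).card ≤ ({0, 1} : Finset F).card :=
      Finset.card_le_card fun t _ => hne t
    rw [Finset.card_univ] at h2
    have := h2.trans Finset.card_le_two
    omega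
  simp only [Finset.mem_insert, Finset.mem_singleton, not_or] at ht
  have hperf : commutator SP₄ = ⊤ := commutator_Sp_eq_top (Or.inr (Or.inr ⟨t, ht.1, fun h =>
    ht.2 ((CharTwo.sq_injective) (by simpa using h))⟩))
  rw [← MonoidHom.ker_eq_bot_iff]
  rcases normal_eq_top_or_le_center one_le_two hperf (extHom (F := F)).ker with h | h
  · exfalso
    refine extHom_not_transv (Pi.single (Sum.inl 0) (1 : F)) 0 ?_
    have h1 : spTransv (Pi.single (Sum.inl 0) (1 : F)) 1 ∈ (extHom (F := F)).ker := h ▸ Subgroup.mem_top _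
    rw [MonoidHom.mem_ker.1 h1]
    exact (sp_ext fun x => by simp [spTransv_mulVec]).symm
  · rwa [center_eq_bot one_le_two, le_bot_iff] at h

end CfsgLib.AutPSp
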