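import Cfsg.Agent.AutPSp.AutOrder
import Cfsg.Agent.OutPSL.Basic

/-!
# The outer automorphism group of `PSp_4` in characteristic two

The exceptional endomorphism squares to the Frobenius field automorphism; hence it is bijective also
over the field with two elements and generates the outer automorphism group.
-/

set_option autoImplicit false

namespace CfsgLib.AutPSp

open Matrix CfsgLib.Forms CfsgLib.Forms4

variable {F : Type*} [Field F]

local notation "ι₄" => Fin 2 ⊕ Fin 2
local notation "SP₄" => Matrix.symplecticGroup (Fin 2) F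

set_option maxHeartbeats 1000000 in
theorem extMat_extMat_transv [CharP F 2] (v : Fin 2 ⊕ Fin 2 → F) (c : F) :
    extMat (extMat (spTransv v c).1) = (spTransv v c).1.map (fun x => x ^ 2) := by
  have hT : ∀ i j, (spTransv v c).1 i j = (Pi.single j (1:F) : Fin 2 ⊕ Fin 2 → F) i +
      c * Cfsg.sympForm 2 F (Pi.single j 1) v * v i := fun i j => by
    have h := congrFun (spTransv_mulVec v (Pi.single j 1 : Fin 2 ⊕ Fin 2 → F) c) i
    rw [Matrix.mulVec_single_one] at h
    simpa [Matrix.col] using h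
  have h2 : (2 : F) = 0 := CharTwo.two_eq_zero
  ext r k
  simp only [Matrix.map_apply, extMat, Matrix.of_apply, minor2, Matrix.col, Matrix.transpose_apply,
    hT, sympForm_eq_sum, Fin.sum_univ_two]
  rcases r with r | r <;> rcases k with k | k <;> fin_cases r <;> fin_cases k <;>
    simp [fstIdx, sndIdx, CharTwo.sub_eq_add] <;> ring_nf <;>
    simp [h2, show (3:F) = 1 from (by rw [show (3:F) = 2 + 1 by norm_num, h2, zero_add]),
      show (4:F) = 0 from (by rw [show (4:F) = 2 * 2 by norm_num, h2, zero_mul]),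
      show (6:F) = 0 from (by rw [show (6:F) = 2 * 3 by norm_num, h2, zero_mul]),
      show (8:F) = 0 from (by rw [show (8:F) = 2 * 4 by norm_num, h2, zero_mul])]

variable [Fintype F] [CharP F 2]

/-- The Frobenius automorphism. -/
noncomputable def frobAut : F ≃+* F :=
  RingEquiv.ofBijective (frobenius F 2)
    ((Finite.injective_iff_bijective).1 (frobenius F 2).injective)

theorem frobAut_apply (x : F) : frobAut x = x ^ 2 := rfl

theorem extHom_extHom (g : SP₄) : extHom (extHom g) = fieldSp frobAut g := by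
  have h : ((extHom (F := F)).comp extHom) = (fieldSp (m := 2) (frobAut (F := F))).toMonoidHom := by
    refine MonoidHom.eq_of_eqOn_dense (s := {A | ∃ w ∈ (Set.univ : Set (ι₄ → F)), ∃ c, A = spTransv w c})
      transvGroup_eq_top ?_
    rintro _ ⟨w, -, c, rfl⟩
    exact Subtype.ext (extMat_extMat_transv w c)
  exact DFunLike.congr_fun h g

theorem extHom_bijective : Function.Bijective (extHom (F := F)) := by
  refine Finite.injective_iff_bijective.1 fun a b hab => (fieldSp (m := 2) (frobAut (F := F))).injective ?_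
  rw [← extHom_extHom, ← extHom_extHom, hab]

/-- The exceptional automorphism, for every even field order. -/
noncomputable def extSpAut : MulAut SP₄ := MulEquiv.ofBijective extHom extHom_bijective

/-- The exceptional automorphism of `PSp_4`, for every even field order. -/
noncomputable def extPSpAut : MulAut (Cfsg.PSp 2 F) := toPSpAut extSpAut

theorem extPSpAut_mul_self :
    extPSpAut (F := F) * extPSpAut = toPSpAut (fieldSp (frobAut (F := F))) := by
  rw [extPSpAut, ← map_mul]
  congr 1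
  ext1 g
  exact extHom_extHom g

theorem extPSpAut_not_transv {x : Cfsg.PSp 2 F} (hx : IsTransv x) :
    ¬ IsTransv (extPSpAut x) := by
  intro h
  obtain ⟨w, c, hw, hc, rfl⟩ := hx
  have h1 : IsTransv (extPSpAut (mkT (Pi.single (Sum.inl 0) (1 : F)) 1)) :=
    isTransv_conj h ((extPSpAut (F := F)).toMonoidHom.map_isConj (mkT_isConj hw (by simp) hc one_ne_zero))
  obtain ⟨v, d, -, -, hvd⟩ := h1
  exact extHom_not_transv v d ((mkEquiv (F := F) (m := 2) one_le_two).injective hvd)

/-- Automorphisms of `PSp_4`, characteristic two, every field order. -/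
theorem exists_semiAut_or_ext (β : MulAut (Cfsg.PSp 2 F)) :
    (∃ g σ, β = semiAut g σ) ∨ ∃ g σ, β = extPSpAut * semiAut g σ := by
  classical
  set e0 : ι₄ → F := Pi.single (Sum.inl 0) 1
  have he0 : e0 ≠ 0 := by simp [e0]
  have ht0 : IsTransv (mkT e0 (1 : F)) := ⟨e0, 1, he0, one_ne_zero, rfl⟩
  have hall : ∀ γ : MulAut (Cfsg.PSp 2 F), IsTransv (γ (mkT e0 1)) →
      ∀ x, IsTransv x → IsTransv (γ x) := by
    rintro γ h x ⟨w, c, hw, hc, rfl⟩
    exact isTransv_conj h (γ.toMonoidHom.map_isConj (mkT_isConj he0 hw one_ne_zero hc))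
  rcases transv_or_radElem le_rfl β ht0 with h | ⟨e, a, hea, hli, h⟩
  · exact Or.inl (exists_semiAut_of_preserves le_rfl β (hall β h))
  · refine Or.inr ?_
    obtain ⟨e', a', hea', hli', h'⟩ :=
      (transv_or_radElem le_rfl (extPSpAut (F := F)) ht0).resolve_left (extPSpAut_not_transv ht0)
    obtain ⟨B', hB1, hB2⟩ := exists_spGL_mulVec_pair hli' hli (by rw [hea', hea])
    obtain ⟨B, rfl⟩ := toSpGL_surjective B'
    change B.1 *ᵥ e' = e at hB1
    change B.1 *ᵥ a' = a at hB2
    have hconj : IsConj (extPSpAut (mkT e0 1)) (β (mkT e0 1)) := by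
      rw [h, h', isConj_iff]
      refine ⟨QuotientGroup.mk B, ?_⟩
      rw [← QuotientGroup.mk_inv, ← QuotientGroup.mk_mul, ← QuotientGroup.mk_mul, conj_radElem', hB1, hB2]
    have h1 : IsTransv (((extPSpAut (F := F))⁻¹ * β) (mkT e0 1)) := by
      refine isTransv_conj ht0 ?_
      have := (extPSpAut (F := F))⁻¹.toMonoidHom.map_isConj hconj
      simpa [MulAut.mul_apply, MulAut.inv_def] using this
    obtain ⟨g, σ, hg⟩ := exists_semiAut_of_preserves le_rfl _ (hall _ h1)
    exact ⟨g, σ, by rw [← hg, mul_inv_cancel_left]⟩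

/-- In characteristic two every inner-diagonal automorphism is inner. -/
theorem inndiag_eq_inn : Cfsg.inndiagPSp 2 F = Cfsg.Inn (Cfsg.PSp 2 F) := by
  haveI : Fact (Nat.Prime 2) := ⟨Nat.prime_two⟩
  haveI := finite_mulAut (F := F) (m := 2)
  refine (Subgroup.eq_of_le_of_card_ge ?_ (le_of_eq ?_)).symm
  · rw [inndiagPSp_eq, inn_eq_range]
    rintro _ ⟨x, rfl⟩
    exact ⟨_, rfl⟩
  · have hodd : Nat.gcd 2 (Fintype.card F - 1) = 1 := by
      have h1 : Fintype.card F % 2 = 0 :=
        FiniteField.even_card_of_char_two (ringChar.eq F 2)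
      have h2 := Fintype.one_lt_card (α := F)
      exact (Nat.coprime_two_left.2 (Nat.odd_iff.2 (by omega)))
    rw [card_inndiagPSp 2 le_rfl, hodd, one_mul]
    exact Nat.card_congr (MonoidHom.ofInjective (conj_injective (F := F) 2 one_le_two)).toEquiv

theorem orderOf_frobAut {f : ℕ} (hf : 1 ≤ f) (hF : Fintype.card F = 2 ^ f) :
    orderOf (frobAut (F := F)) = f := by
  have happ : ∀ (k : ℕ) (x : F), (frobAut (F := F) ^ k) x = x ^ 2 ^ k := by
    intro k
    induction k with
    | zero => intro x; simp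
    | succ k ih => intro x; rw [pow_succ', pow_succ, pow_mul, RingAut.mul_apply, ih, frobAut_apply]
  rw [orderOf_eq_iff (by omega)]
  refine ⟨RingEquiv.ext fun x => by rw [happ, ← hF, FiniteField.pow_card]; rfl, fun k hkf hk hk1 => ?_⟩
  have hall : ∀ x : F, x ^ 2 ^ k = x := fun x => by rw [← happ, hk1]; rfl
  have h1 : 1 < 2 ^ k := Nat.one_lt_two_pow (by omega)
  have hne := FiniteField.X_pow_card_sub_X_ne_zero F h1
  have hle := Polynomial.card_le_degree_of_subset_roots
    (p := (Polynomial.X ^ 2 ^ k - Polynomial.X : Polynomial F)) (Z := Finset.univ) (by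
      intro z _
      rw [Polynomial.mem_roots hne, Polynomial.IsRoot, Polynomial.eval_sub, Polynomial.eval_pow,
        Polynomial.eval_X, hall, sub_self])
  rw [Finset.card_univ, FiniteField.X_pow_card_sub_X_natDegree_eq F h1, hF] at hle
  exact absurd hle (not_le.2 (Nat.pow_lt_pow_right one_lt_two hkf))

/-- The outer automorphism group is cyclic of order `2 f`. -/
theorem out_psp_four {f : ℕ} (hf : 1 ≤ f) (hF : Fintype.card F = 2 ^ f) :
    IsCyclic (Cfsg.Out (Cfsg.PSp 2 F)) ∧ Nat.card (Cfsg.Out (Cfsg.PSp 2 F)) = 2 * f := by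
  haveI : Fact (Nat.Prime 2) := ⟨Nat.prime_two⟩
  set ε := extPSpAut (F := F) with hε
  let ψ : Cfsg.Out (Cfsg.PSp 2 F) := QuotientGroup.mk ε
  let fld : (F ≃+* F) →* MulAut (Cfsg.PSp 2 F) := toPSpAut.comp fieldSp
  have hfld : ∀ k : ℕ, ε ^ (2 * k) = fld (frobAut ^ k) := fun k => by
    rw [pow_mul, sq, hε, extPSpAut_mul_self, map_pow]; rfl
  have hin : ∀ g, toPSpAut (conjSp g) ∈ Cfsg.Inn (Cfsg.PSp 2 F) := fun g =>
    inndiag_eq_inn (F := F) ▸ mem_inndiagPSp_iff.2 ⟨g, rfl⟩
  have hsemi : ∀ g σ, (QuotientGroup.mk (semiAut g σ) : Cfsg.Out (Cfsg.PSp 2 F)) =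
      QuotientGroup.mk (fld σ) := fun g σ => by
    rw [semiAut_eq, QuotientGroup.mk_mul, (QuotientGroup.eq_one_iff _).2 (hin g), one_mul]
    rfl
  have hone : semiAut (F := F) (m := 2) 1 1 = 1 := by
    rw [semiAut, map_one conjSp, map_one fieldSp, one_mul, map_one]
  have hof := orderOf_frobAut hf hF
  have hpowers : ∀ σ : F ≃+* F, ∃ k : ℕ, frobAut ^ k = σ := by
    obtain ⟨e⟩ := CfsgLib.OutPSL.exists_ringEquiv_mulEquiv (F := F) (p := 2) hF hf
    haveI : NeZero f := ⟨by omega⟩
    haveI : Finite (F ≃+* F) := Finite.of_equiv _ e.symm.toEquiv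
    have htop : Subgroup.zpowers (frobAut (F := F)) = ⊤ :=
      Subgroup.eq_top_of_card_eq _ (by
        rw [Nat.card_zpowers, hof, Nat.card_congr e.toEquiv]
        simp)
    intro σ
    have hσ : σ ∈ Subgroup.zpowers (frobAut (F := F)) := htop ▸ Subgroup.mem_top σ
    exact mem_powers_iff_mem_zpowers.2 hσ
  have hgen : ∀ x : Cfsg.Out (Cfsg.PSp 2 F), ∃ j : ℕ, ψ ^ j = x := by
    intro x
    obtain ⟨β, rfl⟩ := QuotientGroup.mk_surjective x
    rcases exists_semiAut_or_ext β with ⟨g, σ, rfl⟩ | ⟨g, σ, rfl⟩ <;>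
      obtain ⟨k, rfl⟩ := hpowers σ
    · exact ⟨2 * k, by rw [hsemi, ← hfld]; rfl⟩
    · exact ⟨2 * k + 1, by rw [QuotientGroup.mk_mul, hsemi, ← hfld, pow_succ']; rfl⟩
  have hord : orderOf ψ = 2 * f := by
    refine Nat.dvd_antisymm (orderOf_dvd_of_pow_eq_one ?_) ?_
    · rw [show ψ ^ (2 * f) = QuotientGroup.mk (ε ^ (2 * f)) from rfl, hfld]
      have : (frobAut (F := F)) ^ f = 1 := by rw [← hof, pow_orderOf_eq_one]
      rw [this, map_one, QuotientGroup.mk_one]
    · have hmem : ε ^ orderOf ψ ∈ Cfsg.Inn (Cfsg.PSp 2 F) :=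
        (QuotientGroup.eq_one_iff _).1 (pow_orderOf_eq_one ψ)
      replace hmem := (SetLike.ext_iff.1 (inndiag_eq_inn (F := F)) _).2 hmem
      rw [mem_inndiagPSp_iff] at hmem
      obtain ⟨g, hg⟩ := hmem
      have hsg : semiAut g 1 = toPSpAut (conjSp g) := by
        rw [semiAut, map_one fieldSp, mul_one]
      have hfs : ∀ σ, fld σ = semiAut (F := F) (m := 2) 1 σ := fun σ => by
        rw [semiAut, map_one conjSp, one_mul]; rfl
      rcases Nat.even_or_odd' (orderOf ψ) with ⟨k, hk | hk⟩ <;> rw [hk] at hg ⊢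
      · rw [hfld, hfs, ← hsg] at hg
        obtain ⟨h1, -⟩ := semiAut_unique 2 le_rfl hg
        exact mul_dvd_mul_left 2 (hof ▸ orderOf_dvd_of_pow_eq_one h1)
      · exfalso
        rw [pow_succ', hfld, hfs, ← hsg] at hg
        have ht0 : IsTransv (mkT (Pi.single (Sum.inl 0) 1) (1 : F) : Cfsg.PSp 2 F) :=
          ⟨_, 1, by simp, one_ne_zero, rfl⟩
        refine extPSpAut_not_transv (isTransv_semiAut 1 (frobAut ^ k) ht0) ?_
        rw [← MulAut.mul_apply, ← hε, hg]
        exact isTransv_semiAut g 1 ht0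
  have hcard : Nat.card (Cfsg.Out (Cfsg.PSp 2 F)) = 2 * f := by
    rw [← hord, ← Nat.card_zpowers]
    refine (Subgroup.card_eq_iff_eq_top _).2 (eq_top_iff.2 fun x _ => ?_) |>.symm
    obtain ⟨j, rfl⟩ := hgen x
    exact Subgroup.npow_mem_zpowers ψ j
  exact ⟨isCyclic_of_orderOf_eq_card ψ (hord.trans hcard.symm), hcard⟩

end CfsgLib.AutPSp
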