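import Cfsg.Agent.AutPSp.Transvection

/-!
# Centres of Sylow subgroups of `Sp_2m` in the defining characteristic
-/

set_option autoImplicit false

namespace CfsgLib.AutPSp

open Matrix CfsgLib.Forms CfsgLib.Forms4

variable {F : Type*} [Field F] {m : ℕ}

local notation "V" => Fin m ⊕ Fin m → F
local notation "SP" => Matrix.symplecticGroup (Fin m) F

theorem coe_mul_mulVec (A B : SP) (x : V) : (A * B).1 *ᵥ x = A.1 *ᵥ (B.1 *ᵥ x) := by
  rw [Submonoid.coe_mul, Matrix.mulVec_mulVec]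

theorem inv_mulVec (A : SP) (x : V) : (A⁻¹ : SP).1 *ᵥ (A.1 *ᵥ x) = x := by
  rw [← coe_mul_mulVec, inv_mul_cancel, Submonoid.coe_one, Matrix.one_mulVec]

theorem mulVec_inv (A : SP) (x : V) : A.1 *ᵥ ((A⁻¹ : SP).1 *ᵥ x) = x := by
  rw [← coe_mul_mulVec, mul_inv_cancel, Submonoid.coe_one, Matrix.one_mulVec]

/-- The unipotent radical of the stabiliser of `e`. -/
def radical (e : V) : Subgroup SP where
  carrier := {A | A.1 *ᵥ e = e ∧ ∀ x, Cfsg.sympForm m F x e = 0 → ∃ t : F, A.1 *ᵥ x = x + t • e}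
  one_mem' := ⟨by simp, fun x _ => ⟨0, by simp⟩⟩
  mul_mem' := by
    intro A B hA hB
    refine ⟨by rw [coe_mul_mulVec, hB.1, hA.1], fun x hx => ?_⟩
    obtain ⟨t, ht⟩ := hB.2 x hx
    obtain ⟨s, hs⟩ := hA.2 x hx
    refine ⟨s + t, ?_⟩
    rw [coe_mul_mulVec, ht, Matrix.mulVec_add, Matrix.mulVec_smul, hs, hA.1, add_smul, add_assoc]
  inv_mem' := by
    intro A hA
    refine ⟨by conv_lhs => rw [← hA.1]; rw [inv_mulVec], fun x hx => ?_⟩
    obtain ⟨t, ht⟩ := hA.2 x hx
    refine ⟨-t, ?_⟩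
    have h : A.1 *ᵥ (x + (-t) • e) = x := by
      rw [Matrix.mulVec_add, Matrix.mulVec_smul, hA.1, ht]
      module
    conv_lhs => rw [← h]
    rw [inv_mulVec]

theorem mem_radical {e : V} {A : SP} : A ∈ radical e ↔
    A.1 *ᵥ e = e ∧ ∀ x, Cfsg.sympForm m F x e = 0 → ∃ t : F, A.1 *ᵥ x = x + t • e := Iff.rfl

theorem isPGroup_radical (p : ℕ) [Fact p.Prime] [CharP F p] (e : V) : IsPGroup p (radical e) := by
  rintro ⟨A, hA⟩
  refine ⟨2, Subtype.ext (Subtype.ext ?_)⟩
  rw [SubgroupClass.coe_pow, SubmonoidClass.coe_pow, OneMemClass.coe_one, OneMemClass.coe_one]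
  set N := A.1 - 1 with hN
  have hNx : ∀ x : V, N *ᵥ x = A.1 *ᵥ x - x := fun x => by rw [hN, Matrix.sub_mulVec, Matrix.one_mulVec]
  have h1 : ∀ x : V, Cfsg.sympForm m F (N *ᵥ x) e = 0 := by
    intro x
    rw [hNx, ← sympBilin_apply, map_sub, LinearMap.sub_apply, sympBilin_apply, sympBilin_apply]
    have := sympForm_map A x e
    rw [hA.1] at this
    rw [this, sub_self]
  have h2 : ∀ x : V, ∃ t : F, N *ᵥ (N *ᵥ x) = t • e := by
    intro x
    obtain ⟨t, ht⟩ := hA.2 (N *ᵥ x) (h1 x)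
    exact ⟨t, by rw [hNx (N *ᵥ x), ht, add_sub_cancel_left]⟩
  have h3 : N ^ 3 = 0 := by
    refine Matrix.ext_iff_mulVec.2 fun x => ?_
    obtain ⟨t, ht⟩ := h2 x
    rw [pow_succ', pow_two, ← Matrix.mulVec_mulVec, ← Matrix.mulVec_mulVec, ht, Matrix.mulVec_smul,
      hNx, hA.1, sub_self, smul_zero, Matrix.zero_mulVec]
  have hp4 : 3 ≤ p ^ 2 := by
    have := (Fact.out : p.Prime).two_le
    nlinarith
  rw [show A.1 = N + 1 by rw [hN, sub_add_cancel]]
  rcases isEmpty_or_nonempty (Fin m ⊕ Fin m) with hι | hι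
  · exact Subsingleton.elim _ _
  rw [add_pow_char_pow_of_commute p 2 (Commute.one_right N), one_pow,
    pow_eq_zero_of_le hp4 h3, zero_add]

/-- The element `x ↦ x + f(x,e)u + f(x,u)e` of the radical. -/
noncomputable def radElem (e u : V) : SP :=
  spTransv (e + u) 1 * spTransv u (-1) * spTransv e (-1)

theorem radElem_mulVec {e u : V} (hu : Cfsg.sympForm m F u e = 0) (x : V) :
    (radElem e u).1 *ᵥ x = x + Cfsg.sympForm m F x e • u + Cfsg.sympForm m F x u • e := by
  have heu : Cfsg.sympForm m F e u = 0 := by rw [sympForm_swap, hu, neg_zero]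
  simp only [radElem, coe_mul_mulVec, spTransv_mulVec, sympForm_add_left, sympForm_add_right,
    sympForm_smul_left, sympForm_smul_right, sympForm_self, hu, heu, mul_zero, add_zero, one_mul]
  module

theorem radElem_mem {e u : V} (hu : Cfsg.sympForm m F u e = 0) : radElem e u ∈ radical e := by
  refine ⟨?_, fun x hx => ⟨Cfsg.sympForm m F x u, ?_⟩⟩
  · rw [radElem_mulVec hu, sympForm_self, zero_smul, add_zero, sympForm_swap, hu, neg_zero, zero_smul,
      add_zero]
  · rw [radElem_mulVec hu, hx, zero_smul, add_zero]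

theorem conj_radElem (A : SP) {e : V} (hAe : A.1 *ᵥ e = e) (u : V) :
    A * radElem e u * A⁻¹ = radElem e (A.1 *ᵥ u) := by
  have h : A * radElem e u * A⁻¹ = (A * spTransv (e + u) 1 * A⁻¹) * (A * spTransv u (-1) * A⁻¹) *
      (A * spTransv e (-1) * A⁻¹) := by
    unfold radElem; group
  rw [h, conj_spTransv, conj_spTransv, conj_spTransv, Matrix.mulVec_add, hAe]
  rfl

theorem spTransv_mem_radical (e : V) (c : F) : spTransv e c ∈ radical e := by
  refine ⟨by rw [spTransv_mulVec, sympForm_self, mul_zero, zero_smul, add_zero], fun x hx => ⟨0, ?_⟩⟩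
  rw [spTransv_mulVec, hx, mul_zero, zero_smul]

theorem conj_mem_radical {e : V} {A Q : SP} (hA : A.1 *ᵥ e = e) (hQ : Q ∈ radical e) :
    A * Q * A⁻¹ ∈ radical e := by
  have hA' : (A⁻¹ : SP).1 *ᵥ e = e := by conv_lhs => rw [← hA]; rw [inv_mulVec]
  refine ⟨by rw [coe_mul_mulVec, coe_mul_mulVec, hA', hQ.1, hA], fun x hx => ?_⟩
  obtain ⟨t, ht⟩ := hQ.2 ((A⁻¹ : SP).1 *ᵥ x) (by
    have := sympForm_map (A⁻¹ : SP) x e
    rwa [hA', hx] at this)
  exact ⟨t, by rw [coe_mul_mulVec, coe_mul_mulVec, ht, Matrix.mulVec_add, Matrix.mulVec_smul, hA, mulVec_inv]⟩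

variable [Fintype F] (p : ℕ) [Fact p.Prime] [CharP F p]

include p in
/-- A `p`-subgroup of `Sp` fixes a nonzero vector. -/
theorem exists_fixed_vector (hm : 1 ≤ m) (S : Subgroup SP) (hS : IsPGroup p S) :
    ∃ e : V, e ≠ 0 ∧ ∀ A ∈ S, A.1 *ᵥ e = e := by
  classical
  letI : MulAction S V :=
    { smul := fun A x => A.1.1 *ᵥ x
      one_smul := fun x => Matrix.one_mulVec x
      mul_smul := fun A B x => coe_mul_mulVec A.1 B.1 x }
  have hcard : p ∣ Nat.card V := by
    obtain ⟨k, hp, hk⟩ := FiniteField.card F p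
    rw [Nat.card_fun, Nat.card_eq_fintype_card (α := F), hk, ← pow_mul]
    refine dvd_pow_self p (Nat.mul_ne_zero k.ne_zero ?_)
    rw [Nat.card_eq_fintype_card, Fintype.card_sum, Fintype.card_fin]
    omega
  have h0 : (0 : V) ∈ MulAction.fixedPoints S V := fun A => Matrix.mulVec_zero _
  obtain ⟨e, he, hne⟩ := hS.exists_fixed_point_of_prime_dvd_card_of_fixed_point (α := V) hcard h0
  exact ⟨e, hne.symm, fun A hA => he ⟨A, hA⟩⟩

include p in
theorem radical_le_sylow (S : Sylow p SP) {e : V} (he : ∀ A ∈ (S : Subgroup SP), A.1 *ᵥ e = e) :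
    radical e ≤ (S : Subgroup SP) := by
  have hnorm : (S : Subgroup SP) ≤ Subgroup.normalizer (radical e : Set SP) := by
    intro A hA
    rw [Subgroup.mem_normalizer_iff]
    intro Q
    refine ⟨conj_mem_radical (he A hA), fun h => ?_⟩
    have h2 := conj_mem_radical (he _ (inv_mem hA)) h
    simpa [mul_assoc] using h2
  have hsup : IsPGroup p ↥((S : Subgroup SP) ⊔ radical e) :=
    S.2.to_sup_of_normal_right' (isPGroup_radical p e) hnorm
  exact le_sup_right.trans (S.is_maximal' hsup le_sup_left).le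

include p in
/-- The structure of a central element of a Sylow subgroup. -/
theorem sylow_center_form (S : Sylow p SP) {e : V} (he0 : e ≠ 0)
    (he : ∀ A ∈ (S : Subgroup SP), A.1 *ᵥ e = e) {z : SP} (hz : z ∈ (S : Subgroup SP))
    (hcen : ∀ A ∈ (S : Subgroup SP), A * z = z * A) :
    z ∈ radical e ∧ (p ≠ 2 → ∀ x, Cfsg.sympForm m F x e = 0 → z.1 *ᵥ x = x) := by
  have key : ∀ u, Cfsg.sympForm m F u e = 0 → ∃ t : F, z.1 *ᵥ u = u + t • e ∧ 2 * t = 0 := by
    intro u hu
    have hmem := radical_le_sylow p S he (radElem_mem hu)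
    have h1 : radElem e (z.1 *ᵥ u) = radElem e u := by
      rw [← conj_radElem z (he z hz) u, ← hcen _ hmem, mul_inv_cancel_right]
    have hzu : Cfsg.sympForm m F (z.1 *ᵥ u) e = 0 := by
      have := sympForm_map z u e
      rwa [he z hz, hu] at this
    obtain ⟨x0, hx0⟩ := exists_sympForm_ne_zero he0
    set d := z.1 *ᵥ u - u with hd
    have h2 : ∀ x : V, Cfsg.sympForm m F x e • d + Cfsg.sympForm m F x d • e = 0 := by
      intro x
      have h := congrArg (fun B : SP => B.1 *ᵥ x) h1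
      simp only [radElem_mulVec hu, radElem_mulVec hzu] at h
      rw [hd, ← sympBilin_apply x (z.1 *ᵥ u - u), map_sub, sympBilin_apply, sympBilin_apply]
      linear_combination (norm := module) h
    obtain ⟨t, ht⟩ : ∃ t : F, d = t • e := by
      refine ⟨-((Cfsg.sympForm m F x0 e)⁻¹ * Cfsg.sympForm m F x0 d), ?_⟩
      have h := h2 x0
      rw [add_eq_zero_iff_eq_neg] at h
      rw [neg_smul, mul_smul, ← smul_neg, ← h, inv_smul_smul₀ hx0]
    refine ⟨t, by rw [← ht, hd]; abel, ?_⟩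
    have h := h2 x0
    rw [ht, sympForm_smul_right, smul_smul, ← add_smul, smul_eq_zero] at h
    have h' := h.resolve_right he0
    exact mul_left_cancel₀ hx0 (by rw [mul_zero]; linear_combination h')
  refine ⟨⟨he z hz, fun x hx => ?_⟩, fun hp x hx => ?_⟩
  · obtain ⟨t, ht, -⟩ := key x hx
    exact ⟨t, ht⟩
  · obtain ⟨t, ht, ht2⟩ := key x hx
    have h2 : (2 : F) ≠ 0 := by
      intro h0
      have := (CharP.cast_eq_zero_iff F p 2).1 (by exact_mod_cast h0)
      exact hp ((Nat.prime_dvd_prime_iff_eq (Fact.out : p.Prime) Nat.prime_two).1 this)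
    rw [ht, (mul_eq_zero.1 ht2).resolve_left h2, zero_smul, add_zero]

omit [Fintype F] in
/-- An element of the radical is a transvection or moves two independent directions. -/
theorem radical_cases {e : V} (he0 : e ≠ 0) {z : SP} (hz : z ∈ radical e) :
    (∃ c : F, z = spTransv e c) ∨ ∃ a : V, Cfsg.sympForm m F e a = 0 ∧ LinearIndependent F ![e, a] ∧
      (∃ x, z.1 *ᵥ x - x = e) ∧ (∃ x, z.1 *ᵥ x - x = a) ∧
      (∀ x, ∃ s t : F, z.1 *ᵥ x - x = s • e + t • a) ∧ ∃ x, Cfsg.sympForm m F x e = 0 ∧ z.1 *ᵥ x ≠ x := by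
  obtain ⟨y, hy⟩ := exists_sympForm_ne_zero he0
  set x0 := (Cfsg.sympForm m F y e)⁻¹ • y with hx0
  have hfx0 : Cfsg.sympForm m F x0 e = 1 := by rw [hx0, sympForm_smul_left, inv_mul_cancel₀ hy]
  set a := z.1 *ᵥ x0 - x0 with ha
  have hzx0 : z.1 *ᵥ x0 = x0 + a := by rw [ha]; abel
  have hea : Cfsg.sympForm m F e a = 0 := by
    rw [ha, ← sympBilin_apply, map_sub, sympBilin_apply, sympBilin_apply]
    have := sympForm_map z e x0
    rw [hz.1] at this
    rw [this, sub_self]
  have hperp : ∀ x, Cfsg.sympForm m F x e = 0 → z.1 *ᵥ x = x + Cfsg.sympForm m F x a • e := by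
    intro x hx
    obtain ⟨t, ht⟩ := hz.2 x hx
    have h := sympForm_map z x x0
    rw [ht, hzx0, sympForm_add_left, sympForm_add_right, sympForm_smul_left, sympForm_add_right, hea,
      sympForm_swap x0 e, hfx0] at h
    rw [ht]
    congr 2
    linear_combination -h
  have hform : ∀ x, z.1 *ᵥ x - x = (Cfsg.sympForm m F x a - Cfsg.sympForm m F x e * Cfsg.sympForm m F x0 a) • e +
      Cfsg.sympForm m F x e • a := by
    intro x
    have hx' : Cfsg.sympForm m F (x + (-Cfsg.sympForm m F x e) • x0) e = 0 := by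
      rw [sympForm_add_left, sympForm_smul_left, hfx0]; ring
    have h := hperp _ hx'
    rw [Matrix.mulVec_add, Matrix.mulVec_smul, hzx0, sympForm_add_left, sympForm_smul_left] at h
    linear_combination (norm := module) h
  by_cases hdep : ∃ s : F, a = s • e
  · left
    obtain ⟨s, hs⟩ := hdep
    refine ⟨s, sp_ext fun x => ?_⟩
    rw [spTransv_mulVec, ← sub_eq_iff_eq_add', hform, hs, sympForm_smul_right, sympForm_smul_right, hfx0]
    module
  · right
    obtain ⟨x1, hx1, hx1a⟩ : ∃ x, Cfsg.sympForm m F x e = 0 ∧ Cfsg.sympForm m F x a ≠ 0 := by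
      by_contra hne
      push Not at hne
      refine hdep (mem_span_of_perp fun x hx => ?_)
      rw [sympForm_swap, hne x (by rw [sympForm_swap, hx, neg_zero]), neg_zero]
    refine ⟨a, hea, ?_, ⟨(Cfsg.sympForm m F x1 a)⁻¹ • x1, ?_⟩, ⟨x0, ha.symm⟩,
      fun x => ⟨_, _, hform x⟩, ⟨x1, hx1, ?_⟩⟩
    · rw [LinearIndependent.pair_iff' he0]
      intro s hs
      exact hdep ⟨s, hs.symm⟩
    · rw [hform, sympForm_smul_left, sympForm_smul_left, hx1, inv_mul_cancel₀ hx1a]
      module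
    · rw [hperp x1 hx1]
      intro h
      rw [add_eq_left, smul_eq_zero] at h
      exact hx1a (h.resolve_right he0)

include p in
/-- In odd characteristic the centres of Sylow subgroups consist of transvections. -/
theorem sylow_center_odd (hm : 1 ≤ m) (hp2 : p ≠ 2) (S : Sylow p SP) {z : SP}
    (hz : z ∈ (S : Subgroup SP)) (hcen : ∀ A ∈ (S : Subgroup SP), A * z = z * A) (hz1 : z ≠ 1) :
    ∃ (w : V) (c : F), w ≠ 0 ∧ c ≠ 0 ∧ z = spTransv w c := by
  obtain ⟨e, he0, he⟩ := exists_fixed_vector p hm (S : Subgroup SP) S.2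
  obtain ⟨hrad, hfix⟩ := sylow_center_form p S he0 he hz hcen
  rcases radical_cases he0 hrad with ⟨c, rfl⟩ | ⟨a, -, -, -, -, -, x, hx, hne⟩
  · refine ⟨e, c, he0, ?_, rfl⟩
    rintro rfl
    exact hz1 (sp_ext fun x => by rw [spTransv_mulVec, zero_mul, zero_smul, add_zero, Submonoid.coe_one,
      Matrix.one_mulVec])
  · exact absurd (hfix hp2 x hx) hne

include p in
/-- Every transvection is central in some Sylow subgroup of `PSp`. -/
theorem exists_sylow_mkT (hm : 1 ≤ m) {w : V} (hw : w ≠ 0) (c : F) :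
    ∃ P : Sylow p (Cfsg.PSp m F), mkT w c ∈ (P : Subgroup (Cfsg.PSp m F)) ∧
      ∀ y ∈ (P : Subgroup (Cfsg.PSp m F)), y * mkT w c = mkT w c * y := by
  classical
  have : Finite SP := Subtype.finite
  obtain ⟨S0⟩ : Nonempty (Sylow p SP) := inferInstance
  obtain ⟨e, he0, he⟩ := exists_fixed_vector p hm (S0 : Subgroup SP) S0.2
  obtain ⟨B, hB⟩ := exists_mulVec_eq he0 hw
  let S := S0.mapSurjective (f := (MulAut.conj B).toMonoidHom) (MulAut.conj B).surjective
  have hfix : ∀ A ∈ (S : Subgroup SP), A.1 *ᵥ w = w := by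
    rintro A hA
    simp only [S, Sylow.coe_mapSurjective, Subgroup.mem_map] at hA
    obtain ⟨A0, hA0, rfl⟩ := hA
    change (B * A0 * B⁻¹).1 *ᵥ w = w
    rw [← hB, coe_mul_mulVec, inv_mulVec, coe_mul_mulVec, he A0 hA0]
  refine ⟨S.mapSurjective (f := QuotientGroup.mk' (Subgroup.center SP)) (QuotientGroup.mk'_surjective _), ?_, ?_⟩
  · rw [Sylow.coe_mapSurjective]
    exact Subgroup.mem_map_of_mem _ (radical_le_sylow p S hfix (spTransv_mem_radical w c))
  · intro y hy
    rw [Sylow.coe_mapSurjective, Subgroup.mem_map] at hy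
    obtain ⟨A, hA, rfl⟩ := hy
    have h := conj_spTransv A w c
    rw [hfix A hA, mul_inv_eq_iff_eq_mul] at h
    exact congrArg (QuotientGroup.mk' (Subgroup.center SP)) h

include p in
/-- Central elements of Sylow subgroups of `PSp` lift. -/
theorem exists_lift_sylow_center (hm : 1 ≤ m) (P : Sylow p (Cfsg.PSp m F)) {x : Cfsg.PSp m F}
    (hx : x ∈ (P : Subgroup (Cfsg.PSp m F))) (hcen : ∀ y ∈ (P : Subgroup (Cfsg.PSp m F)), y * x = x * y) :
    ∃ (S : Sylow p SP) (z : SP), z ∈ (S : Subgroup SP) ∧ (∀ A ∈ (S : Subgroup SP), A * z = z * A) ∧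
      x = QuotientGroup.mk z := by
  classical
  have : Finite SP := Subtype.finite
  obtain ⟨S, rfl⟩ := Sylow.mapSurjective_surjective (QuotientGroup.mk'_surjective (Subgroup.center SP)) p P
  rw [Sylow.coe_mapSurjective, Subgroup.mem_map] at hx
  obtain ⟨z, hz, rfl⟩ := hx
  refine ⟨S, z, hz, fun A hA => ?_, rfl⟩
  have hpow : ∀ B ∈ (S : Subgroup SP), ∃ k, B ^ p ^ k = 1 := fun B hB => by
    obtain ⟨k, hk⟩ := S.2 ⟨B, hB⟩
    exact ⟨k, congrArg Subtype.val hk⟩
  have h := hcen (QuotientGroup.mk' _ A) (by rw [Sylow.coe_mapSurjective]; exact Subgroup.mem_map_of_mem _ hA)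
  obtain ⟨k, hk⟩ := hpow z hz
  have e : MulAut.conj A z = z := by
    refine eq_of_mk_eq p hm (k := k) (by rw [← map_pow, hk, map_one]) hk ?_
    simp only [MulAut.conj_apply, QuotientGroup.mk_mul, QuotientGroup.mk_inv]
    simp only [QuotientGroup.mk'_apply] at h
    rw [h, mul_inv_cancel_right]
  rwa [MulAut.conj_apply, mul_inv_eq_iff_eq_mul] at e

include p in
theorem preserves_transv_odd (hm : 1 ≤ m) (hp2 : p ≠ 2) (β : MulAut (Cfsg.PSp m F))
    (x : Cfsg.PSp m F) (hx : IsTransv x) : IsTransv (β x) := by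
  classical
  obtain ⟨w, c, hw, hc, rfl⟩ := hx
  haveI : Finite (Cfsg.PSp m F) := Quotient.finite _
  obtain ⟨P, hP, hcen⟩ := exists_sylow_mkT p hm hw c
  let P' := P.mapSurjective (f := β.toMonoidHom) β.surjective
  have hmem : β (mkT w c) ∈ (P' : Subgroup (Cfsg.PSp m F)) := by
    simp only [P', Sylow.coe_mapSurjective]
    exact Subgroup.mem_map_of_mem _ hP
  obtain ⟨S, z, hz, hzc, hzx⟩ := exists_lift_sylow_center p hm P' hmem fun y hy => by
    simp only [P', Sylow.coe_mapSurjective, Subgroup.mem_map] at hy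
    obtain ⟨y0, hy0, rfl⟩ := hy
    change β y0 * β _ = β _ * β y0
    rw [← map_mul, ← map_mul, hcen y0 hy0]
  have hne : z ≠ 1 := by
    rintro rfl
    have h1 : mkT w c = mkT w 0 := by
      apply β.injective
      rw [hzx, mkT, show spTransv w (0 : F) = (1 : SP) from sp_ext fun x => by simp [spTransv_mulVec],
        QuotientGroup.mk_one, map_one]
    exact spTransv_ne_one hw hc (by
      rw [eq_of_mkT_eq p hm h1]; exact sp_ext fun x => by simp [spTransv_mulVec])
  obtain ⟨v, d, hv, hd, rfl⟩ := sylow_center_odd p hm hp2 S hz hzc hne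
  exact ⟨v, d, hv, hd, hzx⟩

end CfsgLib.AutPSp
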