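import Cfsg.Agent.AutPSp.Realise
import Cfsg.Agent.Collineation.Fundamental

/-!
# Automorphisms of `PSp_2m` preserving the transvections are semilinear
-/

set_option autoImplicit false

namespace CfsgLib.AutPSp

open Matrix CfsgLib.Forms CfsgLib.Forms4

variable {F : Type*} [Field F] {m : ℕ}

local notation "V" => Fin m ⊕ Fin m → F
local notation "SP" => Matrix.symplecticGroup (Fin m) F

/-- The image in `PSp` of a transvection. -/
noncomputable def mkT (w : V) (c : F) : Cfsg.PSp m F := QuotientGroup.mk (spTransv w c)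

/-- `x` is the image of a nontrivial transvection. -/
def IsTransv (x : Cfsg.PSp m F) : Prop := ∃ (w : V) (c : F), w ≠ 0 ∧ c ≠ 0 ∧ x = mkT w c

theorem exists_sympForm_ne_zero {w : V} (hw : w ≠ 0) : ∃ z, Cfsg.sympForm m F z w ≠ 0 := by
  obtain ⟨z, hz, -⟩ := exists_sympForm_ne_zero_two hw hw
  exact ⟨z, by rw [sympForm_swap]; exact neg_ne_zero.2 hz⟩

theorem line_of_spTransv_eq {w v : V} {c d : F} (hw : w ≠ 0) (hc : c ≠ 0)
    (h : spTransv w c = spTransv v d) : ∃ t : F, v = t • w := by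
  obtain ⟨z, hz⟩ := exists_sympForm_ne_zero hw
  have := congrArg (fun B : SP => B.1 *ᵥ z) h
  simp only [spTransv_mulVec, add_right_inj] at this
  have hd : d * Cfsg.sympForm m F z v ≠ 0 := by
    intro h0
    rw [h0, zero_smul, smul_eq_zero] at this
    rcases this with h1 | h1
    · exact mul_ne_zero hc hz h1
    · exact hw h1
  exact ⟨(d * Cfsg.sympForm m F z v)⁻¹ * (c * Cfsg.sympForm m F z w), by
    rw [mul_smul, this, inv_smul_smul₀ hd]⟩

theorem spTransv_ne_one {w : V} {c : F} (hw : w ≠ 0) (hc : c ≠ 0) : spTransv w c ≠ (1 : SP) := by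
  intro h
  obtain ⟨z, hz⟩ := exists_sympForm_ne_zero hw
  have := congrArg (fun B : SP => B.1 *ᵥ z) h
  simp only [spTransv_mulVec, Submonoid.coe_one, Matrix.one_mulVec] at this
  rw [add_eq_left, smul_eq_zero] at this
  rcases this with h1 | h1
  · exact mul_ne_zero hc hz h1
  · exact hw h1

section Char

variable (p : ℕ) [Fact p.Prime] [CharP F p]

theorem spTransv_pow_char (w : V) (c : F) (k : ℕ) (hk : 1 ≤ k) : (spTransv w c) ^ p ^ k = (1 : SP) := by
  have h := (transvHom w).map_pow (Multiplicative.ofAdd c) (p ^ k)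
  have h0 : (Multiplicative.ofAdd c) ^ p ^ k = 1 := by
    rw [← ofAdd_nsmul, nsmul_eq_mul]
    have : ((p ^ k : ℕ) : F) = 0 := by
      rw [Nat.cast_pow, CharP.cast_eq_zero, zero_pow (by omega)]
    rw [this, zero_mul]; rfl
  rw [h0, map_one] at h
  exact h.symm

theorem pow_char_center_eq_one (hm : 1 ≤ m) {z : SP} (hz : z ∈ Subgroup.center SP) {k : ℕ}
    (hk : z ^ p ^ k = 1) : z = 1 := by
  obtain ⟨r, hr⟩ := mem_center_iff.1 hz
  have h := congrArg (fun g : SP => g.1 (Sum.inl ⟨0, hm⟩) (Sum.inl ⟨0, hm⟩)) hk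
  simp [hr, smul_pow, Matrix.smul_apply] at h
  have hr1 : r = 1 := by
    apply iterateFrobenius_inj F p k
    simpa [iterateFrobenius_def] using h
  exact Subtype.ext (by rw [hr, hr1, one_smul]; rfl)

include p in
theorem eq_of_mk_eq (hm : 1 ≤ m) {x y : SP} {k : ℕ} (hx : x ^ p ^ k = 1) (hy : y ^ p ^ k = 1)
    (h : (QuotientGroup.mk x : Cfsg.PSp m F) = QuotientGroup.mk y) : x = y := by
  obtain ⟨z, hz, rfl⟩ : ∃ z ∈ Subgroup.center SP, y = x * z :=
    ⟨x⁻¹ * y, QuotientGroup.eq.1 h, by group⟩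
  have hcomm : Commute x z := Subgroup.mem_center_iff.1 hz x
  rw [hcomm.mul_pow, hx, one_mul] at hy
  rw [pow_char_center_eq_one p hm hz hy, mul_one]

include p in
theorem eq_of_mkT_eq (hm : 1 ≤ m) {w v : V} {c d : F} (h : mkT w c = mkT v d) :
    spTransv w c = spTransv v d :=
  eq_of_mk_eq p hm (spTransv_pow_char p w c 1 le_rfl) (spTransv_pow_char p v d 1 le_rfl) h

include p in
theorem toPSpAut_injective (hm : 1 ≤ m) : Function.Injective (toPSpAut (F := F) (m := m)) := by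
  intro α β h
  suffices hh : ∀ s, α s = β s by ext1 s; exact hh s
  let E : Subgroup SP := MonoidHom.eqLocus α.toMonoidHom β.toMonoidHom
  suffices hE : E = ⊤ by intro s; exact (hE.ge (Subgroup.mem_top s) : s ∈ E)
  rw [eq_top_iff, ← transvGroup_eq_top, transvGroup, Subgroup.closure_le]
  rintro _ ⟨w, -, c, rfl⟩
  refine eq_of_mk_eq p hm (k := 1) ?_ ?_ ?_
  · change (α (spTransv w c)) ^ p ^ 1 = 1
    rw [← map_pow, spTransv_pow_char p w c 1 le_rfl, map_one]
  · change (β (spTransv w c)) ^ p ^ 1 = 1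
    rw [← map_pow, spTransv_pow_char p w c 1 le_rfl, map_one]
  · exact congrArg (fun φ : MulAut (Cfsg.PSp m F) => φ (QuotientGroup.mk (spTransv w c))) h

include p in
/-- Transvections commute in `PSp` exactly when their centres are orthogonal. -/
theorem commute_mkT_iff (hm : 1 ≤ m) {w v : V} {c d : F} (hw : w ≠ 0) (hv : v ≠ 0) (hc : c ≠ 0)
    (hd : d ≠ 0) : Commute (mkT w c) (mkT v d) ↔ Cfsg.sympForm m F w v = 0 := by
  constructor
  · intro h
    by_contra hf
    have h1 : mkT ((spTransv w c).1 *ᵥ v) d = mkT v d := by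
      rw [mkT, ← conj_spTransv, QuotientGroup.mk_mul, QuotientGroup.mk_mul, QuotientGroup.mk_inv]
      change mkT w c * mkT v d * (mkT w c)⁻¹ = _
      rw [h.eq, mul_inv_cancel_right]
    obtain ⟨t, ht⟩ := line_of_spTransv_eq hv hd (eq_of_mkT_eq p hm h1).symm
    rw [spTransv_mulVec] at ht
    have hk : c * Cfsg.sympForm m F v w ≠ 0 :=
      mul_ne_zero hc (by rw [sympForm_swap]; exact neg_ne_zero.2 hf)
    have hwv : w = ((c * Cfsg.sympForm m F v w)⁻¹ * (t - 1)) • v := by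
      rw [mul_smul, sub_smul, one_smul, ← ht, add_sub_cancel_left, inv_smul_smul₀ hk]
    apply hf
    rw [hwv, sympForm_smul_left, sympForm_self, mul_zero]
  · intro hf
    have h : (spTransv w c).1 *ᵥ v = v := by
      rw [spTransv_mulVec, sympForm_swap, hf, neg_zero, mul_zero, zero_smul, add_zero]
    have h1 := conj_spTransv (spTransv w c) v d
    rw [h, mul_inv_eq_iff_eq_mul] at h1
    exact (Commute.map (show Commute (spTransv w c) (spTransv v d) from h1)
      (QuotientGroup.mk' (Subgroup.center SP)))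

end Char

/-- The double perpendicular of a pair of vectors. -/
theorem mem_span_pair_of_perp {u v w : V}
    (h : ∀ z, Cfsg.sympForm m F u z = 0 → Cfsg.sympForm m F v z = 0 → Cfsg.sympForm m F w z = 0) :
    ∃ a b : F, w = a • u + b • v := by
  have hmem : sympBilin m F w ∈ Submodule.span F (Set.range ![sympBilin m F u, sympBilin m F v]) := by
    refine mem_span_of_iInf_ker_le_ker fun z hz => ?_
    simp only [Submodule.mem_iInf, LinearMap.mem_ker] at hz
    have h0 := hz 0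
    have h1 := hz 1
    simp only [Matrix.cons_val_zero, Matrix.cons_val_one, sympBilin_apply] at h0 h1
    rw [LinearMap.mem_ker, sympBilin_apply]
    exact h z h0 h1
  obtain ⟨c, hc⟩ := (Submodule.mem_span_range_iff_exists_fun F).1 hmem
  refine ⟨c 0, c 1, sub_eq_zero.1 (sympForm_sep _ fun z => ?_)⟩
  rw [← sympBilin_apply, map_sub, map_add, map_smul, map_smul, ← hc, Fin.sum_univ_two]
  simp

theorem mem_span_of_perp {u w : V}
    (h : ∀ z, Cfsg.sympForm m F u z = 0 → Cfsg.sympForm m F w z = 0) : ∃ a : F, w = a • u := by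
  obtain ⟨a, b, hab⟩ := mem_span_pair_of_perp (u := u) (v := u) fun z h1 _ => h z h1
  exact ⟨a + b, by rw [hab, add_smul]⟩

/-- A linear map preserving orthogonality is a similitude. -/
theorem mem_GSp_of_perp (hm : 1 ≤ m) {g : GL (Fin m ⊕ Fin m) F}
    (h : ∀ u v, Cfsg.sympForm m F u v = 0 → Cfsg.sympForm m F (g.1 *ᵥ u) (g.1 *ᵥ v) = 0) :
    g ∈ Cfsg.GSp m F := by
  set B : V → V → F := fun u v => Cfsg.sympForm m F (g.1 *ᵥ u) (g.1 *ᵥ v) with hBdef
  have hB : ∀ u z v, Cfsg.sympForm m F u z = 1 → B u v = B u z * Cfsg.sympForm m F u v := by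
    intro u z v huz
    have h0 := h u (v - Cfsg.sympForm m F u v • z) (by
      rw [← sympBilin_apply, map_sub, map_smul, sympBilin_apply, sympBilin_apply, huz, smul_eq_mul,
        mul_one, sub_self])
    rw [← sympBilin_apply, Matrix.mulVec_sub, Matrix.mulVec_smul, map_sub, map_smul, sub_eq_zero,
      sympBilin_apply, sympBilin_apply, smul_eq_mul] at h0
    rw [hBdef]
    exact h0.trans (mul_comm _ _)
  have hcu : ∀ u : V, ∃ k : F, ∀ v, B u v = k * Cfsg.sympForm m F u v := by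
    intro u
    by_cases hu : u = 0
    · exact ⟨0, fun v => by simp [hBdef, hu, ← sympBilin_apply]⟩
    obtain ⟨z, hz, -⟩ := exists_sympForm_ne_zero_two hu hu
    exact ⟨_, fun v => hB u ((Cfsg.sympForm m F u z)⁻¹ • z) v (by rw [sympForm_smul_right, inv_mul_cancel₀ hz])⟩
  choose k hk using hcu
  have hkeq : ∀ u v, Cfsg.sympForm m F u v ≠ 0 → k u = k v := by
    intro u v huv
    have e1 := hk u v
    have e2 := hk v u
    have e3 : B v u = - B u v := sympForm_swap _ _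
    rw [e3, e1, sympForm_swap u v] at e2
    exact mul_right_cancel₀ huv (by linear_combination -e2)
  obtain ⟨u0, hu0⟩ : ∃ u0 : V, u0 ≠ 0 := ⟨Pi.single (Sum.inl ⟨0, hm⟩) 1, by simp⟩
  have hall : ∀ u v, B u v = k u0 * Cfsg.sympForm m F u v := by
    intro u v
    by_cases hu : u = 0
    · simp [hBdef, hu, ← sympBilin_apply]
    obtain ⟨z, hz1, hz2⟩ := exists_sympForm_ne_zero_two hu hu0
    rw [hk u v, hkeq u z hz1]
    congr 1
    refine (hkeq u0 z ?_).symm
    first
      | exact hz2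
      | (rw [sympForm_swap]; exact neg_ne_zero.2 hz2)
  have hk0 : k u0 ≠ 0 := by
    intro h0
    apply hu0
    have h1 : g.1 *ᵥ u0 = 0 := sympForm_sep _ fun v => by
      have h2 := hall u0 ((g⁻¹ : GL (Fin m ⊕ Fin m) F).1 *ᵥ v)
      rw [h0, zero_mul, hBdef] at h2
      simpa [Matrix.mulVec_mulVec] using h2
    simpa [Matrix.mulVec_mulVec] using congrArg ((g⁻¹ : GL (Fin m ⊕ Fin m) F).1 *ᵥ ·) h1
  exact mem_GSp_iff.2 ⟨Units.mk0 _ hk0, hall⟩

theorem conjSp_spTransv (g : ↥(Cfsg.GSp m F)) :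
    ∃ μ : F, μ ≠ 0 ∧ ∀ (w : V) (c : F), conjSp g (spTransv w c) = spTransv (g.1.1 *ᵥ w) (c * μ) := by
  obtain ⟨k, hk⟩ := mem_GSp_iff.1 g.2
  refine ⟨(k : F)⁻¹, inv_ne_zero k.ne_zero, fun w c => sp_ext fun x => ?_⟩
  rw [conjSp_coe, ← Matrix.mulVec_mulVec, ← Matrix.mulVec_mulVec, spTransv_mulVec, spTransv_mulVec,
    Matrix.mulVec_add, Matrix.mulVec_smul, Matrix.mulVec_mulVec, g.1.mul_inv, Matrix.one_mulVec]
  have h1 := hk ((g.1⁻¹ : GL (Fin m ⊕ Fin m) F).1 *ᵥ x) w
  rw [Matrix.mulVec_mulVec, g.1.mul_inv, Matrix.one_mulVec] at h1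
  rw [h1]
  congr 2
  field_simp

theorem fieldSp_spTransv (σ : F ≃+* F) (w : V) (c : F) :
    fieldSp σ (spTransv w c) = spTransv (σ ∘ w) (σ c) := by
  refine sp_ext fun x => ?_
  rw [← field_comp_symm σ x, fieldSp_coe, map_mulVec_field, spTransv_mulVec, spTransv_mulVec,
    sympForm_map_field]
  funext i
  simp

variable [Fintype F]

/-- **Automorphisms preserving transvections are semilinear.** -/
theorem exists_semiAut_of_preserves (hm : 2 ≤ m) (β : MulAut (Cfsg.PSp m F))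
    (hβ : ∀ x, IsTransv x → IsTransv (β x)) : ∃ g σ, β = semiAut (m := m) (F := F) g σ := by
  classical
  obtain ⟨p, hp⟩ := CharP.exists F
  have : Fact p.Prime := ⟨CharP.char_is_prime F p⟩
  have hm1 : 1 ≤ m := by omega
  haveI : Finite (Cfsg.PSp m F) := Quotient.finite _
  -- surjectivity on transvections
  have hsurjT : ∀ y, IsTransv y → ∃ x, IsTransv x ∧ β x = y := by
    intro y hy
    have hinj : Function.Injective (fun x : {x // IsTransv (m := m) (F := F) x} =>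
        (⟨β x.1, hβ _ x.2⟩ : {x // IsTransv (m := m) (F := F) x})) :=
      fun a b h => Subtype.ext (β.injective (congrArg Subtype.val h))
    obtain ⟨x, hx⟩ := Finite.injective_iff_surjective.1 hinj ⟨y, hy⟩
    exact ⟨x.1, x.2, congrArg Subtype.val hx⟩
  let R : V → V → Prop := fun w w' => w ≠ 0 ∧ w' ≠ 0 ∧ ∃ c d : F, c ≠ 0 ∧ d ≠ 0 ∧ β (mkT w c) = mkT w' d
  have hperp : ∀ {u u' v v'}, R u u' → R v v' →
      (Cfsg.sympForm m F u' v' = 0 ↔ Cfsg.sympForm m F u v = 0) := by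
    rintro u u' v v' ⟨hu, hu', c, d, hc, hd, e⟩ ⟨hv, hv', c', d', hc', hd', e'⟩
    rw [← commute_mkT_iff p hm1 hu hv hc hc', ← commute_mkT_iff p hm1 hu' hv' hd hd', ← e, ← e']
    exact ⟨fun h => by
      have h2 := h.map β.symm.toMonoidHom
      simpa using h2, fun h => h.map β.toMonoidHom⟩
  have hex : ∀ w : V, w ≠ 0 → ∃ w', R w w' := by
    intro w hw
    obtain ⟨w', d, hw', hd, e⟩ := hβ _ ⟨w, 1, hw, one_ne_zero, rfl⟩
    exact ⟨w', hw, hw', 1, d, one_ne_zero, hd, e⟩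
  have hback : ∀ v : V, v ≠ 0 → ∃ z, R z v := by
    intro v hv
    obtain ⟨x, ⟨z, c, hz, hc, rfl⟩, hx⟩ := hsurjT _ ⟨v, 1, hv, one_ne_zero, rfl⟩
    exact ⟨z, hz, hv, c, 1, hc, one_ne_zero, hx⟩
  choose! f hf using hex
  have hcol : CfsgLib.Collineation.IsCollineation f := by
    refine ⟨fun x hx => (hf x hx).2.1, fun u v w hu hv hw => ?_, fun u v hu hv => ?_, fun y hy => ?_⟩
    · rintro ⟨a, b, hab⟩
      refine mem_span_pair_of_perp fun z h1 h2 => ?_
      by_cases hz : z = 0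
      · simp [hz, ← sympBilin_apply]
      obtain ⟨z', hz'⟩ := hback z hz
      rw [hperp (hf u hu) hz'] at h1
      rw [hperp (hf v hv) hz'] at h2
      rw [hperp (hf w hw) hz', hab, sympForm_add_left, sympForm_smul_left, sympForm_smul_left, h1, h2,
        mul_zero, mul_zero, add_zero]
    · rintro ⟨c, hc⟩
      have hc0 : c ≠ 0 := fun h0 => (hf u hu).2.1 (by rw [hc, h0, zero_smul])
      refine mem_span_of_perp fun z hz => ?_
      by_cases hz0 : z = 0
      · simp [hz0, ← sympBilin_apply]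
      rw [← hperp (hf u hu) (hf z hz0), hc, sympForm_smul_left, (hperp (hf v hv) (hf z hz0)).2 hz, mul_zero]
    · obtain ⟨x, hx⟩ := hback y hy
      refine ⟨x, hx.1, mem_span_of_perp fun z hz => ?_⟩
      by_cases hz0 : z = 0
      · simp [hz0, ← sympBilin_apply]
      obtain ⟨z', hz'⟩ := hback z hz0
      rw [hperp (hf x hx.1) hz'] at hz
      exact (hperp hx hz').2 hz
  obtain ⟨g, σ, hgσ⟩ := hcol.exists_semilinear (by simp; omega)
  have hperp' : ∀ u v, Cfsg.sympForm m F u v = 0 → Cfsg.sympForm m F (g.1 *ᵥ u) (g.1 *ᵥ v) = 0 := by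
    intro u v huv
    by_cases hu : u = 0
    · simp [hu, ← sympBilin_apply]
    by_cases hv : v = 0
    · simp [hv, ← sympBilin_apply]
    have hu' : (σ.symm ∘ u : V) ≠ 0 := fun h => hu (by rw [← field_comp_symm σ u, h]; funext i; simp)
    have hv' : (σ.symm ∘ v : V) ≠ 0 := fun h => hv (by rw [← field_comp_symm σ v, h]; funext i; simp)
    obtain ⟨a, ha0, ha⟩ := hgσ _ hu'
    obtain ⟨b, hb0, hb⟩ := hgσ _ hv'
    have h := (hperp (hf _ hu') (hf _ hv')).2 (by rw [sympForm_map_field, huv, map_zero])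
    rw [ha, hb, sympForm_smul_left, sympForm_smul_right, field_comp_symm, field_comp_symm] at h
    exact (mul_eq_zero.1 ((mul_eq_zero.1 h).resolve_left ha0)).resolve_left hb0
  have hg : g ∈ Cfsg.GSp m F := mem_GSp_of_perp hm1 hperp'
  refine ⟨⟨g, hg⟩, σ, ?_⟩
  set γ := semiAut (m := m) (⟨g, hg⟩ : ↥(Cfsg.GSp m F)) σ with hγ
  -- `γ⁻¹ β` fixes every transvection group
  have hfix : ∀ w : V, w ≠ 0 → ∃ c d : F, c ≠ 0 ∧ d ≠ 0 ∧ (γ⁻¹ * β) (mkT w c) = mkT w d := by
    intro w hw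
    obtain ⟨-, -, c, d, hc, hd, e⟩ := hf w hw
    obtain ⟨a, ha0, ha⟩ := hgσ w hw
    have hσw : (σ ∘ w : V) ≠ 0 := fun h => hw (funext fun i => σ.injective (by simpa using congrFun h i))
    obtain ⟨μ, hμ, hμe⟩ := conjSp_spTransv ⟨g, hg⟩
    refine ⟨c, σ.symm (d * a ^ 2 * μ⁻¹), hc, by simp [hd, ha0, hμ], ?_⟩
    rw [MulAut.mul_apply, e, MulAut.inv_def, MulEquiv.symm_apply_eq, ha]
    change mkT _ _ = toPSpAut _ (QuotientGroup.mk (spTransv w (σ.symm (d * a ^ 2 * μ⁻¹))))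
    rw [toPSpAut_mk, MulAut.mul_apply, fieldSp_spTransv, σ.apply_symm_apply, hμe, mkT, spTransv_smul]
    congr 2
    field_simp
  suffices hid : γ⁻¹ * β = 1 by exact (inv_mul_eq_one.1 hid).symm
  ext1 x
  induction x using QuotientGroup.induction_on with
  | H A =>
  obtain ⟨A', hA'⟩ := QuotientGroup.mk_surjective ((γ⁻¹ * β) (QuotientGroup.mk A))
  rw [MulAut.one_apply, ← hA', QuotientGroup.eq]
  refine mem_center_of_scalar (exists_scalar_of_smul_eq (A'⁻¹ * A) fun w hw => ?_).choose_spec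
  obtain ⟨c, d, hc, hd, e⟩ := hfix w hw
  have hAw : A.1 *ᵥ w ≠ 0 := mulVec_ne_zero A hw
  obtain ⟨c', d', hc', hd', e'⟩ := hfix _ hAw
  -- both `A` and `A'` carry the group of `w` to the group of `A w`
  have h1 : (γ⁻¹ * β) (mkT (A.1 *ᵥ w) c) = mkT (A'.1 *ᵥ w) d := by
    rw [mkT, ← conj_spTransv, QuotientGroup.mk_mul, QuotientGroup.mk_mul, QuotientGroup.mk_inv,
      map_mul, map_mul, map_inv, ← hA']
    change _ * (γ⁻¹ * β) (mkT w c) * _ = _
    rw [e, mkT, ← QuotientGroup.mk_inv, ← QuotientGroup.mk_mul, ← QuotientGroup.mk_mul, conj_spTransv]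
    rfl
  have hA'w : A'.1 *ᵥ w ≠ 0 := mulVec_ne_zero A' hw
  have hlineR : ∃ t : F, A'.1 *ᵥ w = t • (A.1 *ᵥ w) := by
    refine mem_span_of_perp fun z hz => ?_
    by_cases hz0 : z = 0
    · simp [hz0, ← sympBilin_apply]
    obtain ⟨cz, dz, hcz, hdz, ez⟩ := hfix z hz0
    rw [← commute_mkT_iff p hm1 hA'w hz0 hd hdz, ← h1, ← ez]
    exact ((commute_mkT_iff p hm1 hAw hz0 hc hcz).2 hz).map (γ⁻¹ * β).toMonoidHom
  obtain ⟨t, ht⟩ := hlineR
  have ht0 : t ≠ 0 := fun h0 => hA'w (by rw [ht, h0, zero_smul])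
  refine ⟨t⁻¹, ?_⟩
  have h2 : (A'⁻¹ : SP).1 *ᵥ (A'.1 *ᵥ w) = w := by
    rw [Matrix.mulVec_mulVec, ← Submonoid.coe_mul, inv_mul_cancel, Submonoid.coe_one, Matrix.one_mulVec]
  rw [ht, Matrix.mulVec_smul] at h2
  rw [Submonoid.coe_mul, ← Matrix.mulVec_mulVec]
  exact (eq_inv_smul_iff₀ ht0).2 h2

end CfsgLib.AutPSp
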